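import Groth.Agent.RedX.Split
import Groth.Agent.Hopf.Cochar.MaxRank
import Mathlib.RingTheory.Smooth.Basic
import Mathlib.RingTheory.FinitePresentation

/-!
# Split tori are smooth tori
-/

set_option autoImplicit false
universe u

open CategoryTheory MonoidalCategory CartesianMonoidalCategory MonObj GrpObj AlgebraicGeometry

noncomputable section

namespace Groth.RedX

theorem smooth_groupAlgebra (R : Type u) [CommRing R] [IsNoetherianRing R] (M : Type) [AddCommGroup M]
    [Module.Finite ℤ M] [Module.Free ℤ M] : Algebra.Smooth R (MonoidAlgebra R (Multiplicative M)) := by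
  have : AddGroup.FG M := Module.Finite.iff_addGroup_fg.mp inferInstance
  have : Algebra.FiniteType R (MonoidAlgebra R (Multiplicative M)) := inferInstance
  have : Algebra.FinitePresentation R (MonoidAlgebra R (Multiplicative M)) :=
    Algebra.FinitePresentation.of_finiteType.1 inferInstance
  refine ⟨Algebra.FormallySmooth.of_comp_surjective fun B _ _ I hI g => ?_, inferInstance⟩
  classical
  let b := Module.Free.chooseBasis ℤ M
  have hlift : ∀ i, ∃ u : Bˣ, Ideal.Quotient.mk I (u : B) = g (MonoidAlgebra.of R _ (Multiplicative.ofAdd (b i))) := by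
    intro i
    obtain ⟨x, hx⟩ := Ideal.Quotient.mk_surjective (g (MonoidAlgebra.of R _ (Multiplicative.ofAdd (b i))))
    obtain ⟨y, hy⟩ := Ideal.Quotient.mk_surjective (g (MonoidAlgebra.of R _ (Multiplicative.ofAdd (-b i))))
    have h1 : Ideal.Quotient.mk I (x * y) = 1 := by
      rw [map_mul, hx, hy, ← map_mul, ← map_mul, ← ofAdd_add, add_neg_cancel, ofAdd_zero, map_one, map_one]
    have h2 : IsUnit (x * y) := by
      have hn : x * y - 1 ∈ I := Ideal.Quotient.eq_zero_iff_mem.1 (by rw [map_sub, h1, map_one, sub_self])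
      have : IsNilpotent (x * y - 1) := ⟨2, by
        have := Ideal.pow_mem_pow hn 2
        rwa [hI, Ideal.mem_bot] at this⟩
      simpa using this.isUnit_add_one
    exact ⟨(isUnit_of_mul_isUnit_left h2).unit, hx⟩
  choose v hv using hlift
  let χ : Multiplicative M →* Bˣ :=
    AddMonoidHom.toMultiplicativeLeft (b.constr ℤ (fun i => Additive.ofMul (v i))).toAddMonoidHom
  refine ⟨MonoidAlgebra.lift R B (Multiplicative M) ((Units.coeHom B).comp χ), ?_⟩
  have key : ∀ m : M, Ideal.Quotient.mk I (χ (Multiplicative.ofAdd m) : B) =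
      g (MonoidAlgebra.of R _ (Multiplicative.ofAdd m)) := by
    have hu : ((Units.map (Ideal.Quotient.mk I : B →* B ⧸ I)).comp χ) =
        (((g : MonoidAlgebra R (Multiplicative M) →* B ⧸ I).comp (MonoidAlgebra.of R _)).toHomUnits) := by
      apply AddMonoidHom.toMultiplicativeLeft.symm.injective
      refine AddMonoidHom.toIntLinearMap_injective (b.ext fun i => Additive.toMul.injective (Units.ext ?_))
      simpa [χ] using hv i
    intro m
    exact congrArg Units.val (DFunLike.congr_fun hu (Multiplicative.ofAdd m))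
  apply MonoidAlgebra.algHom_ext'
  · exact MonoidHom.ext fun m => by simpa using key (Multiplicative.toAdd m)
  · exact Subsingleton.elim _ _

/-- Split tori are smooth. -/
theorem smooth_DS (S : Scheme.{u}) (M : Type) [AddCommGroup M] [Module.Finite ℤ M] [Module.Free ℤ M] :
    Smooth (Red.DS S M).hom := by
  have h : Smooth (Red.diag (ULift.{u} ℤ) M).hom :=
    (HasRingHomProperty.Spec_iff (P := @Smooth)).2
      (RingHom.smooth_algebraMap.2 (haveI : IsNoetherianRing (ULift.{u} ℤ) :=
          isNoetherianRing_of_ringEquiv ℤ ULift.ringEquiv.symm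
        smooth_groupAlgebra (ULift.{u} ℤ) M))
  exact MorphismProperty.pullback_snd _ _ h

variable {S : Scheme.{u}} {M N : Type} [AddCommGroup M] [AddCommGroup N]

theorem dsVal_DSmap (φ : M →+ N) {X : Over S} (x : X ⟶ Red.DS S N) (m : Multiplicative M) :
    Reductive.dsVal (x ≫ Red.DSmap S φ) m = Reductive.dsVal x (AddMonoidHom.toMultiplicative φ m) :=
  ptVal_DSmap φ x m

theorem isMonHom_DSmap' (φ : M →+ N) : IsMonHom (Red.DSmap S φ) :=
  AlgGrp1.isMonHom_of_points _ fun X a b => Reductive.dsVal_ext fun m => by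
    rw [dsVal_DSmap, Reductive.dsVal_mul, Reductive.dsVal_mul, dsVal_DSmap, dsVal_DSmap]

theorem isSplitTorusWith_of_equiv {T : Over S} [GrpObj T] (e : M ≃+ N) (h : Red.IsSplitTorusWith N T) :
    Red.IsSplitTorusWith M T := by
  obtain ⟨i⟩ := h
  let d : Red.DS S N ≅ Red.DS S M :=
    ⟨Red.DSmap S e.toAddMonoidHom, Red.DSmap S e.symm.toAddMonoidHom,
      Reductive.dsVal_ext fun m => by
        rw [dsVal_DSmap, ← Category.id_comp (Red.DSmap S e.toAddMonoidHom), dsVal_DSmap]
        exact congrArg (Reductive.dsVal (𝟙 (Red.DS S N))) (congrArg Multiplicative.ofAdd (e.apply_symm_apply m.toAdd)),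
      Reductive.dsVal_ext fun m => by
        rw [dsVal_DSmap, ← Category.id_comp (Red.DSmap S e.symm.toAddMonoidHom), dsVal_DSmap]
        exact congrArg (Reductive.dsVal (𝟙 (Red.DS S M))) (congrArg Multiplicative.ofAdd (e.symm_apply_apply m.toAdd))⟩
  have : IsMonHom d.hom := isMonHom_DSmap' _
  exact ⟨i ≪≫ Grp.mkIso d (IsMonHom.one_hom d.hom) (IsMonHom.mul_hom d.hom)⟩

/-- Split tori are tori. -/
theorem isTorus_DS (S : Scheme.{u}) (M : Type) [AddCommGroup M] [Module.Finite ℤ M] [Module.Free ℤ M] :
    Red.IsTorus (Red.DS S M) := by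
  refine ⟨S, 𝟙 S, inferInstance, inferInstance, fun V hV => ⟨V, hV.isCompact, by simp⟩, fun s => ?_⟩
  exact ⟨⊤, trivial, Module.finrank ℤ M,
    isSplitTorusWith_of_equiv (Module.finBasis ℤ M).equivFun.toAddEquiv.symm
      (Cochar.isSplitTorusWith_bc _ M)⟩

end Groth.RedX

end
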