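import Groth.Agent.RedX.NormFinite
import Groth.Agent.Reductive2.MaxTorusAlgClosed

/-!
# Conjugation between split maximal tori and the root data
-/

set_option autoImplicit false
universe u

open CategoryTheory MonoidalCategory CartesianMonoidalCategory MonObj GrpObj AlgebraicGeometry
open scoped TensorProduct

noncomputable section

namespace Groth.RedX

open Groth.Agf

variable {k : Type u} [Field k] {M M' M'' : Type} [AddCommGroup M] [AddCommGroup M'] [AddCommGroup M'']

/-- A homomorphism of split tori over a field comes from a map of character groups. -/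
theorem exists_charMap (f : Red.DS (S₀ k) M ⟶ Red.DS (S₀ k) M') [IsMonHom f] : ∃ φ : M' →+ M,
    ∀ (B : Type u) [CommRing B] [Algebra k B] (χ : Multiplicative M →* Bˣ),
      tpt χ ≫ f = tpt (χ.comp (AddMonoidHom.toMultiplicative φ)) := by
  classical
  obtain ⟨χu, hu⟩ := exists_tpt (torUniv k M ≫ f)
  have key : ∀ (B : Type u) [CommRing B] [Algebra k B] (χ : Multiplicative M →* Bˣ), tpt χ ≫ f =
      tpt ((Units.map (MonoidAlgebra.lift k B (Multiplicative M) ((Units.coeHom B).comp χ) :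
        MonoidAlgebra k (Multiplicative M) →* B)).comp χu) := fun B _ _ χ => by
    rw [← ptMap_torUniv, Category.assoc, ← hu, ptMap_tpt]
  have single : ∀ n, ∃ m, (χu n : MonoidAlgebra k (Multiplicative M)) = MonoidAlgebra.single m 1 := by
    intro n
    let M₂ := Multiplicative M × Multiplicative M
    let χ₁ := ((MonoidAlgebra.of k M₂).comp (MonoidHom.inl (Multiplicative M) (Multiplicative M))).toHomUnits
    let χ₂ := ((MonoidAlgebra.of k M₂).comp (MonoidHom.inr (Multiplicative M) (Multiplicative M))).toHomUnits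
    have h := key (MonoidAlgebra k M₂) (χ₁ * χ₂)
    rw [tpt_mul, MonObj.mul_comp _ _ f, key, key, ← tpt_mul] at h
    have h1 := congrArg (fun v : (MonoidAlgebra k M₂)ˣ => (v : MonoidAlgebra k M₂))
      (DFunLike.congr_fun (tpt_injective h) n)
    simp only [MonoidHom.mul_apply, Units.val_mul, MonoidHom.comp_apply, Units.coe_map,
      MonoidHom.coe_coe, MonoidAlgebra.lift_apply] at h1
    set p := (χu n : MonoidAlgebra k (Multiplicative M)) with hp
    have hc : ∀ a b, p.coeff a * p.coeff b = if a = b then p.coeff a else 0 := by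
      intro a b
      simp only [χ₁, χ₂, Finsupp.sum, MonoidHom.coe_toHomUnits, MonoidHom.comp_apply,
        Units.coeHom_apply, Units.val_mul, MonoidAlgebra.of_apply, MonoidAlgebra.single_mul_single,
        MonoidAlgebra.smul_single, smul_eq_mul, _root_.mul_one] at h1
      erw [Finset.sum_mul_sum] at h1
      have h2 := congrArg (fun q : MonoidAlgebra k M₂ => q.coeff (a, b)) h1
      have hl : ∀ x : Multiplicative M,
          MonoidHom.inl (Multiplicative M) (Multiplicative M) x = (x, 1) := fun _ => rfl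
      have hr : ∀ x : Multiplicative M,
          MonoidHom.inr (Multiplicative M) (Multiplicative M) x = (1, x) := fun _ => rfl
      have hpr : ∀ x y : Multiplicative M,
          MonoidHom.inl (Multiplicative M) (Multiplicative M) x *
            MonoidHom.inr (Multiplicative M) (Multiplicative M) y = (x, y) := fun x y => by simp [hl, hr]
      simp [hpr, Finsupp.single_apply,
        MonoidAlgebra.single_mul_single, Finsupp.finsetSum_apply] at h2
      have hP : ∀ x y : Multiplicative M, (((x, y) : M₂) = (a, b)) = (x = a ∧ y = b) :=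
        fun _ _ => propext Prod.mk_inj
      simp only [hP, ite_and, Finset.sum_ite_eq', Finset.sum_ite_irrel, Finset.sum_const_zero,
        Finsupp.mem_support_iff] at h2
      by_cases ha : p.coeff a = 0 <;> by_cases hb : p.coeff b = 0 <;> by_cases hab : a = b <;> simp_all
    have hne : p.coeff.support.Nonempty := by
      rw [Finsupp.support_nonempty_iff]
      intro h0
      exact (χu n).ne_zero (MonoidAlgebra.coeff_injective (h0.trans MonoidAlgebra.coeff_zero.symm))
    obtain ⟨m, hm⟩ := hne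
    rw [Finsupp.mem_support_iff] at hm
    refine ⟨m, MonoidAlgebra.coeff_injective (Finsupp.ext fun a => ?_)⟩
    rw [MonoidAlgebra.coeff_single]
    rcases eq_or_ne m a with rfl | ha
    · rw [Finsupp.single_eq_same]
      exact mul_left_cancel₀ hm (by rw [hc, if_pos rfl, _root_.mul_one])
    · rw [Finsupp.single_eq_of_ne ha.symm]
      simpa [hm, ha] using hc m a
  choose φ hφ using single
  have hφ0 : φ 1 = 1 := by
    have h := hφ 1
    rw [map_one, Units.val_one, MonoidAlgebra.one_def] at h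
    exact (MonoidAlgebra.single_left_inj one_ne_zero).1 h.symm
  have hφm : ∀ a b, φ (a * b) = φ a * φ b := fun a b => by
    have h := hφ (a * b)
    rw [map_mul, Units.val_mul, hφ, hφ, MonoidAlgebra.single_mul_single, _root_.mul_one] at h
    exact (MonoidAlgebra.single_left_inj one_ne_zero).1 h.symm
  refine ⟨{ toFun := fun a => (φ (Multiplicative.ofAdd a)).toAdd
            map_zero' := by simp [hφ0]
            map_add' := fun a b => by simp [hφm] }, fun B _ _ χ => ?_⟩
  rw [key]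
  refine congrArg tpt (MonoidHom.ext fun n => Units.ext ?_)
  simp [hφ]

theorem charMap_ext {φ ψ : M' →+ M}
    (h : ∀ (B : Type u) [CommRing B] [Algebra k B] (χ : Multiplicative M →* Bˣ),
      tpt (k := k) (χ.comp (AddMonoidHom.toMultiplicative φ)) = tpt (χ.comp (AddMonoidHom.toMultiplicative ψ))) :
    φ = ψ := AddMonoidHom.ext fun x => by
  have h1 := DFunLike.congr_fun (tpt_injective (h _ (MonoidAlgebra.of k (Multiplicative M)).toHomUnits))
    (Multiplicative.ofAdd x)
  have h2 := congrArg (fun v : (MonoidAlgebra k (Multiplicative M))ˣ => (v : MonoidAlgebra k (Multiplicative M))) h1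
  exact Multiplicative.ofAdd.injective (MonoidAlgebra.of_injective h2)

/-- An isomorphism of split tori over a field comes from an isomorphism of character groups. -/
theorem exists_charEquiv (f : Red.DS (S₀ k) M ⟶ Red.DS (S₀ k) M') [IsMonHom f] [IsIso f] :
    ∃ φ : M' ≃+ M, ∀ (B : Type u) [CommRing B] [Algebra k B] (χ : Multiplicative M →* Bˣ),
      tpt χ ≫ f = tpt (χ.comp (AddMonoidHom.toMultiplicative φ.toAddMonoidHom)) := by
  have : IsMonHom (inv f) := inferInstanceAs (IsMonHom (asIso f).inv)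
  obtain ⟨φ, hφ⟩ := exists_charMap f
  obtain ⟨ψ, hψ⟩ := exists_charMap (inv f)
  have h1 : φ.comp ψ = AddMonoidHom.id M := charMap_ext fun B _ _ χ => by
    show _ = tpt (k := k) χ
    conv_rhs => rw [← Category.comp_id (tpt (k := k) χ), ← IsIso.hom_inv_id f, ← Category.assoc, hφ, hψ]
    rfl
  have h2 : ψ.comp φ = AddMonoidHom.id M' := charMap_ext fun B _ _ χ => by
    show _ = tpt (k := k) χ
    conv_rhs => rw [← Category.comp_id (tpt (k := k) χ), ← IsIso.inv_hom_id f, ← Category.assoc, hψ, hφ]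
    rfl
  exact ⟨φ.toAddEquiv ψ h2 h1, hφ⟩

variable {G : Over (S₀ k)} [GrpObj G]

/-- Conjugation by `g` carries the torus `j` to the torus `j'`, acting by `φ` on characters. -/
def IsConj (g : VecGrp.pt k k ⟶ G) (j : Red.DS (S₀ k) M ⟶ G) (j' : Red.DS (S₀ k) M' ⟶ G) (φ : M' →+ M) :
    Prop :=
  ∀ (B : Type u) [CommRing B] [Algebra k B] (χ : Multiplicative M →* Bˣ),
    cst g * (tpt χ ≫ j) * (cst g)⁻¹ = tpt (χ.comp (AddMonoidHom.toMultiplicative φ)) ≫ j'

theorem cst_mul (B : Type u) [CommRing B] [Algebra k B] (g h : VecGrp.pt k k ⟶ G) :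
    cst (B := B) (g * h) = cst g * cst h := MonObj.comp_mul _ _ _

theorem cst_inv (B : Type u) [CommRing B] [Algebra k B] (g : VecGrp.pt k k ⟶ G) :
    cst (B := B) g⁻¹ = (cst g)⁻¹ := GrpObj.comp_inv _ _

variable {g g' : VecGrp.pt k k ⟶ G} {j : Red.DS (S₀ k) M ⟶ G} {j' : Red.DS (S₀ k) M' ⟶ G}
  {j'' : Red.DS (S₀ k) M'' ⟶ G}

theorem IsConj.trans {φ : M' →+ M} {ψ : M'' →+ M'} (h : IsConj g j j' φ) (h' : IsConj g' j' j'' ψ) :
    IsConj (g' * g) j j'' (φ.comp ψ) := fun B _ _ χ => by
  have e := h' B (χ.comp (AddMonoidHom.toMultiplicative φ))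
  rw [← h B χ] at e
  refine Eq.trans ?_ e
  rw [cst_mul, _root_.mul_inv_rev]
  simp only [_root_.mul_assoc]

theorem IsConj.symm {φ : M' ≃+ M} (h : IsConj g j j' φ.toAddMonoidHom) :
    IsConj g⁻¹ j' j φ.symm.toAddMonoidHom := fun B _ _ χ => by
  have e := h B (χ.comp (AddMonoidHom.toMultiplicative φ.symm.toAddMonoidHom))
  have e1 : (χ.comp (AddMonoidHom.toMultiplicative φ.symm.toAddMonoidHom)).comp
      (AddMonoidHom.toMultiplicative φ.toAddMonoidHom) = χ := MonoidHom.ext fun m => by simp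
  rw [e1] at e
  rw [← e, cst_inv, _root_.inv_inv]
  simp [_root_.mul_assoc]

omit [GrpObj G] in
theorem cst_conj_comp {X : Over (S₀ k)} (g : 𝟙_ (Over (S₀ k)) ⟶ G) {B : Type u} [CommRing B] [Algebra k B]
    (x : VecGrp.pt k B ⟶ X) : x ≫ toUnit X ≫ g = cst (B := B) (toUnit (VecGrp.pt k k) ≫ g) := by
  rw [cst, ← Category.assoc, ← Category.assoc]
  congr 1
  exact toUnit_unique _ _

/-- A conjugate of a weight homomorphism. -/
theorem IsWeightHom.conjugate {φ : M' ≃+ M} (g₀ : 𝟙_ (Over (S₀ k)) ⟶ G)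
    (h : IsConj (toUnit _ ≫ g₀) j j' φ.toAddMonoidHom) {m : M} {u : Red.Ga (S₀ k) ⟶ G} (hu : IsWeightHom j m u) :
    IsWeightHom j' (φ.symm m) ((toUnit _ ≫ g₀) * u * (toUnit _ ≫ g₀)⁻¹) := by
  have e : ∀ {B : Type u} [CommRing B] [Algebra k B] (r : B),
      apt (k := k) r ≫ ((toUnit _ ≫ g₀) * u * (toUnit _ ≫ g₀)⁻¹) =
        cst (toUnit _ ≫ g₀) * (apt r ≫ u) * (cst (toUnit _ ≫ g₀))⁻¹ := fun r => by
    rw [MonObj.comp_mul, MonObj.comp_mul, GrpObj.comp_inv, cst_conj_comp]
  refine ⟨fun B _ _ => by simp [e, hu.map_zero], fun B _ _ r s hrs => ?_, fun B _ _ χ r => ?_⟩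
  · refine hu.inj B ?_
    simp only [e] at hrs
    exact mul_left_cancel (mul_right_cancel hrs)
  · have hc := hu.conj B (χ.comp (AddMonoidHom.toMultiplicative φ.symm.toAddMonoidHom)) r
    have h1 := h B (χ.comp (AddMonoidHom.toMultiplicative φ.symm.toAddMonoidHom))
    have e1 : (χ.comp (AddMonoidHom.toMultiplicative φ.symm.toAddMonoidHom)).comp
        (AddMonoidHom.toMultiplicative φ.toAddMonoidHom) = χ := MonoidHom.ext fun m => by simp
    rw [e1] at h1
    rw [e, e, ← h1]
    refine Eq.trans ?_ (congrArg (fun z => cst (toUnit _ ≫ g₀) * z * (cst (toUnit _ ≫ g₀))⁻¹) (hc.trans ?_))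
    · simp [_root_.mul_assoc]
    · rfl

section Splitting

variable (D : Red.SplitRed G)

/-- The torus of a splitting as a split torus. -/
def splitIncl : Red.DS (S₀ k) D.M ⟶ G := D.split.inv.hom.hom ≫ D.i

instance isMonHom_split_inv : IsMonHom D.split.inv.hom.hom := D.split.inv.hom.isMonHom_hom

instance isIso_split_inv : IsIso D.split.inv.hom.hom :=
  ⟨D.split.hom.hom.hom, congrArg (fun f : Grp.mk (Red.DS _ D.M) ⟶ Grp.mk (Red.DS _ D.M) => f.hom.hom) D.split.inv_hom_id,
    congrArg (fun f : Grp.mk D.T ⟶ Grp.mk D.T => f.hom.hom) D.split.hom_inv_id⟩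

instance isMonHom_splitIncl : IsMonHom (splitIncl D) := by
  have := D.maximalTorus.1
  unfold splitIncl; infer_instance

instance mono_splitIncl : Mono (splitIncl D) := by
  have := D.maximalTorus.2.1
  unfold splitIncl; infer_instance

theorem split_inv_hom : D.split.inv.hom.hom ≫ D.split.hom.hom.hom = 𝟙 _ :=
  congrArg (fun f : Grp.mk (Red.DS _ D.M) ⟶ Grp.mk (Red.DS _ D.M) => f.hom.hom) D.split.inv_hom_id

theorem isWeightHom_root (a : D.idx) : IsWeightHom (splitIncl D) (D.P.root a) (D.u a) := by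
  obtain ⟨hmon, hcl, hconj⟩ := D.rootHom a
  have : Mono ((Over.forget (S₀ k)).map (D.u a)) := inferInstanceAs (Mono (D.u a).left)
  have : Mono (D.u a) := (Over.forget (S₀ k)).mono_of_mono_map this
  refine ⟨fun B _ _ => by rw [apt_zero, MonObj.one_comp],
    fun B _ _ r s h => apt_injective ((cancel_mono (D.u a)).1 h), fun B _ _ χ r => ?_⟩
  obtain ⟨y, hy1, hy2⟩ := hconj _ (tpt χ ≫ D.split.inv.hom.hom) (apt r)
  rw [splitIncl, ← Category.assoc]
  rw [← hy1]
  congr 1
  refine Reductive.gaFn_injective (hy2.trans ?_)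
  rw [Category.assoc, ← Category.assoc D.split.inv.hom.hom, split_inv_hom, Category.id_comp, gmFn_tpt_chi,
    gaFn_apt, gaFn_apt, map_mul]

theorem exists_refl (a : D.idx) : ∃ n : VecGrp.pt k k ⟶ G,
    IsConj n (splitIncl D) (splitIncl D) (D.P.reflection a).toLinearMap.toAddMonoidHom := by
  obtain ⟨n, hn⟩ := D.refl a
  refine ⟨toUnit _ ≫ n, fun B _ _ χ => ?_⟩
  have h := hn _ (tpt χ ≫ D.split.inv.hom.hom)
  rw [Category.assoc, Category.assoc, ← Category.assoc D.split.inv.hom.hom D.split.hom.hom.hom,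
    split_inv_hom, Category.id_comp, ← Category.assoc (tpt χ) (Red.DSmap _ _), tpt_DSmap] at h
  refine Eq.trans ?_ h
  rw [← cst_conj_comp (B := B) n (𝟙 _), Category.id_comp, splitIncl]

variable (D' : Red.SplitRed G)

/-- Conjugate maximal tori have isomorphic character groups. -/
theorem exists_isConj [IsAlgClosed k] (g₀ : 𝟙_ (Over (S₀ k)) ⟶ G)
    (hg : ∀ (X : Over (S₀ k)) (t : X ⟶ D.T), ∃ t' : X ⟶ D'.T,
      (toUnit X ≫ g₀) * (t ≫ D.i) * (toUnit X ≫ g₀)⁻¹ = t' ≫ D'.i) :
    ∃ φ : D'.M ≃+ D.M, IsConj (toUnit _ ≫ g₀) (splitIncl D) (splitIncl D') φ.toAddMonoidHom := by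
  obtain ⟨hm, hmono, -, hmax⟩ := (Reductive2.MaxTorus.isMaximalTorus_iff D.i).1 D.maximalTorus
  obtain ⟨hm', hmono', hT', -⟩ := (Reductive2.MaxTorus.isMaximalTorus_iff D'.i).1 D'.maximalTorus
  obtain ⟨c, hc⟩ := hg D.T (𝟙 _)
  rw [Category.id_comp] at hc
  have hcX : ∀ {X : Over (S₀ k)} (t : X ⟶ D.T),
      t ≫ c ≫ D'.i = (toUnit X ≫ g₀) * (t ≫ D.i) * (toUnit X ≫ g₀)⁻¹ := fun {X} t => by
    rw [← hc, MonObj.comp_mul, MonObj.comp_mul, GrpObj.comp_inv, ← Category.assoc, comp_toUnit]
  have hcm : IsMonHom c := AlgGrp1.isMonHom_of_points c fun X a b => by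
    rw [← cancel_mono D'.i, Category.assoc, MonObj.mul_comp _ _ D'.i, Category.assoc, Category.assoc, hcX,
      hcX, hcX, MonObj.mul_comp]
    simp [_root_.mul_assoc]
  let j : D'.T ⟶ G := (toUnit _ ≫ g₀)⁻¹ * D'.i * (toUnit _ ≫ g₀)
  have hjX : ∀ {X : Over (S₀ k)} (t : X ⟶ D'.T),
      t ≫ j = (toUnit X ≫ g₀)⁻¹ * (t ≫ D'.i) * (toUnit X ≫ g₀) := fun {X} t => by
    rw [MonObj.comp_mul, MonObj.comp_mul, GrpObj.comp_inv, ← Category.assoc, comp_toUnit]
  have : IsMonHom j := AlgGrp1.isMonHom_of_points j fun X a b => by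
    rw [hjX, hjX, hjX, MonObj.mul_comp]
    simp [_root_.mul_assoc]
  have : Mono j := ⟨fun {X} a b hab => by
    rw [hjX, hjX] at hab
    exact (cancel_mono D'.i).1 (mul_left_cancel (mul_right_cancel hab))⟩
  have hcj : c ≫ j = D.i := by
    rw [hjX, ← Category.id_comp (c ≫ D'.i), hcX, Category.id_comp]
    simp [_root_.mul_assoc]
  have : IsIso c := hmax D'.T j c hT' hcj
  have : IsMonHom D'.split.hom.hom.hom := D'.split.hom.hom.isMonHom_hom
  have : IsIso D'.split.hom.hom.hom :=
    ⟨D'.split.inv.hom.hom, congrArg (fun f : Grp.mk D'.T ⟶ Grp.mk D'.T => f.hom.hom) D'.split.hom_inv_id,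
      split_inv_hom D'⟩
  have : IsIso (D.split.inv.hom.hom ≫ c ≫ D'.split.hom.hom.hom) :=
    IsIso.comp_isIso' inferInstance (IsIso.comp_isIso' ‹IsIso c› ‹_›)
  have : IsMonHom (D.split.inv.hom.hom ≫ c ≫ D'.split.hom.hom.hom) := by infer_instance
  obtain ⟨φ, hφ⟩ := exists_charEquiv (D.split.inv.hom.hom ≫ c ≫ D'.split.hom.hom.hom)
  refine ⟨φ, fun B _ _ χ => ?_⟩
  rw [← hφ, ← cst_conj_comp (B := B) g₀ (𝟙 _), Category.id_comp, splitIncl, splitIncl, ← Category.assoc (tpt χ),
    ← hcX]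
  simp only [Category.assoc]
  rw [← Category.assoc D'.split.hom.hom.hom D'.split.inv.hom.hom,
    show D'.split.hom.hom.hom ≫ D'.split.inv.hom.hom = 𝟙 _ from
      congrArg (fun f : Grp.mk D'.T ⟶ Grp.mk D'.T => f.hom.hom) D'.split.hom_inv_id, Category.id_comp]

theorem dim_eq [IsAlgClosed k] : topologicalKrullDim G.left =
    ((Module.finrank ℤ D.M + Fintype.card D.idx : ℕ) : WithBot ℕ∞) := by
  let s : S₀ k := IsLocalRing.closedPoint k
  have := Reductive2.MaxTorus.isIso_geomPt (k := k) s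
  let f := Limits.pullback.fst G.hom (Red.geomPt s)
  rw [← D.dim_fibre s]
  exact (IsHomeomorph.topologicalKrullDim_eq (f := f.base) ⟨f.continuous, f.isOpenEmbedding.isOpenMap,
    f.homeomorph.bijective⟩).symm

theorem exists_root_of_isConj [IsAlgClosed k] [IsAffine G.left] [Smooth G.hom] (g₀ : 𝟙_ (Over (S₀ k)) ⟶ G)
    {φ : D'.M ≃+ D.M} (h : IsConj (toUnit _ ≫ g₀) (splitIncl D) (splitIncl D') φ.toAddMonoidHom) (a : D.idx) :
    ∃ b, φ (D'.P.root b) = D.P.root a := by
  obtain ⟨b, hb⟩ := exists_root_eq (splitIncl D') (fun b => D'.P.root b) D'.P.root.injective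
    (fun b => D'.P.ne_zero b) D'.u (isWeightHom_root D') (dim_eq D')
    (m := φ.symm (D.P.root a)) (by simpa using D.P.ne_zero a) ((isWeightHom_root D a).conjugate g₀ h)
  exact ⟨b, by rw [hb, AddEquiv.apply_symm_apply]⟩

theorem coroot_eq [IsAlgClosed k] [IsAffine G.left] [LocallyOfFiniteType G.hom] {g : VecGrp.pt k k ⟶ G}
    {φ : D'.M ≃+ D.M} (h : IsConj g (splitIncl D) (splitIncl D') φ.toAddMonoidHom) {a : D.idx} {b : D'.idx}
    (hab : φ (D'.P.root b) = D.P.root a) (x : D'.M) : D.P.coroot' a (φ x) = D'.P.coroot' b x := by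
  obtain ⟨n, hn⟩ := exists_refl D a
  obtain ⟨n', hn'⟩ := exists_refl D' b
  have hw := hn.trans ((h.trans hn').trans h.symm)
  let hh : D.M →+ ℤ := (D'.P.coroot' b).toAddMonoidHom.comp φ.symm.toAddMonoidHom - (D.P.coroot' a).toAddMonoidHom
  have hφ : φ.symm (D.P.root a) = D'.P.root b := by rw [← hab, AddEquiv.symm_apply_apply]
  have hα : hh (D.P.root a) = 0 := by
    simp [hh, hφ, RootPairing.coroot']
  have h0 := transvection_eq_zero (splitIncl D) _ (D.P.root a) (D.P.ne_zero a) hh hα _ ?_ hw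
  · have := DFunLike.congr_fun h0 (φ x)
    exact ((sub_eq_zero.1 (by simpa [hh] using this)).symm)
  · intro y
    show D.P.reflection a (φ (D'.P.reflection b (φ.symm y))) = y + hh y • D.P.root a
    rw [RootPairing.reflection_apply D'.P, map_sub, map_zsmul, hab, AddEquiv.apply_symm_apply, map_sub,
      map_smul, RootPairing.reflection_apply_self, RootPairing.reflection_apply]
    simp only [hh, AddMonoidHom.sub_apply, sub_smul, smul_neg, sub_neg_eq_add]
    abel!

theorem nonempty_equiv [IsAlgClosed k] [IsAffine G.left] [Smooth G.hom] (g₀ : 𝟙_ (Over (S₀ k)) ⟶ G)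
    (hg : ∀ (X : Over (S₀ k)) (t : X ⟶ D.T), ∃ t' : X ⟶ D'.T,
      (toUnit X ≫ g₀) * (t ≫ D.i) * (toUnit X ≫ g₀)⁻¹ = t' ≫ D'.i) :
    Nonempty (RootPairing.Equiv D.P D'.P) := by
  obtain ⟨φ, hφ⟩ := exists_isConj D D' g₀ hg
  have hinv : toUnit _ ≫ g₀⁻¹ = (toUnit (VecGrp.pt k k) ≫ g₀)⁻¹ := GrpObj.comp_inv _ _
  have hsymm : IsConj (toUnit _ ≫ g₀⁻¹) (splitIncl D') (splitIncl D) φ.symm.toAddMonoidHom := by
    rw [hinv]; exact hφ.symm
  choose e he using exists_root_of_isConj D D' g₀ hφ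
  choose e' he' using exists_root_of_isConj D' D g₀⁻¹ hsymm
  let E : D.idx ≃ D'.idx :=
    { toFun := e
      invFun := e'
      left_inv := fun a => D.P.root.injective (φ.symm.injective (by
        rw [he' (e a), ← he a, AddEquiv.symm_apply_apply]))
      right_inv := fun b => D'.P.root.injective (φ.injective (by
        rw [he (e' b), ← AddEquiv.apply_symm_apply φ (D.P.root (e' b)), he' b])) }
  let f : D.M ≃ₗ[ℤ] D'.M := φ.symm.toIntLinearEquiv
  refine ⟨⟨⟨f.toLinearMap, f.dualMap.toLinearMap, E, ?_, ?_, ?_⟩, f.bijective, f.dualMap.bijective⟩⟩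
  · refine LinearMap.ext fun y => LinearMap.ext fun x => ?_
    show D'.P.toLinearMap (f x) y = D.P.toLinearMap x (f.dualMap y)
    rw [D'.pairing_eq, D.pairing_eq]
    rfl
  · funext a
    show φ.symm (D.P.root a) = D'.P.root (E a)
    rw [← he a, AddEquiv.symm_apply_apply]
    rfl
  · funext b
    refine LinearMap.ext fun x => ?_
    have h := coroot_eq D D' hφ (a := E.symm b) (b := b) (by
      rw [← he (E.symm b)]
      exact congrArg (fun b => φ (D'.P.root b)) (E.apply_symm_apply b).symm) (φ.symm x)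
    simp only [RootPairing.coroot', LinearMap.flip_apply, D.pairing_eq, D'.pairing_eq,
      Module.Dual.eval_apply, AddEquiv.apply_symm_apply] at h
    exact h.symm

end Splitting

end Groth.RedX

end
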