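import Groth.Agent.FlatMor2.FibCrit.Fibrewise
import Groth.Agent.Reductive.TorusMT

/-!
# Isomorphisms over a base detected on geometric fibres
-/

set_option autoImplicit false
universe u

open CategoryTheory AlgebraicGeometry

noncomputable section

namespace Groth.RedX

/-- A morphism out of a flat finitely presented scheme which is an isomorphism on every geometric fibre. -/
theorem isIso_of_geomFibres {S : Scheme.{u}} {A B : Over S} (f : A ⟶ B) [Flat A.hom]
    [LocallyOfFinitePresentation A.hom] [LocallyOfFiniteType B.hom]
    (h : ∀ s : S, IsIso ((Over.pullback (Red.geomPt s)).map f)) : IsIso f := by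
  have hA : A.hom = f.left ≫ B.hom := (Over.w f).symm
  have : Flat (f.left ≫ B.hom) := hA ▸ ‹Flat A.hom›
  have : LocallyOfFinitePresentation (f.left ≫ B.hom) := hA ▸ ‹LocallyOfFinitePresentation A.hom›
  have hl : IsIso f.left := by
    refine FlatMor2.FibCrit.isIso_of_fibres f.left B.hom fun s => ?_
    have e := Reductive.FreeDiag.prop_map_fieldPoint_iff f (MorphismProperty.isomorphisms Scheme.{u})
      (AlgebraicClosure (S.residueField s)) (Red.geomPt s)
    have e' : (Red.geomPt s).base (IsLocalRing.closedPoint _) = s := by
      rw [Scheme.Hom.comp_apply, Scheme.fromSpecResidueField_apply]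
    rw [e'] at e
    have h1 : IsIso ((Over.pullback (S.fromSpecResidueField s)).map f).left :=
      e.1 ((Over.forget _).map_isIso ((Over.pullback (Red.geomPt s)).map f) : _)
    let c : (f.left ≫ B.hom).fiber s ≅ Limits.pullback A.hom (S.fromSpecResidueField s) :=
      Limits.pullback.congrHom hA.symm rfl
    have h2 : MoreMor.fiberMap f.left B.hom s = c.hom ≫ ((Over.pullback (S.fromSpecResidueField s)).map f).left := by
      apply Limits.pullback.hom_ext
      · rw [Category.assoc, show ((Over.pullback (S.fromSpecResidueField s)).map f).left ≫
            Limits.pullback.fst B.hom (S.fromSpecResidueField s) =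
            Limits.pullback.fst A.hom (S.fromSpecResidueField s) ≫ f.left from Limits.pullback.lift_fst _ _ _,
          MoreMor.fiberMap]
        refine (Limits.pullback.lift_fst _ _ _).trans ?_
        rw [← Category.assoc, show c.hom ≫ Limits.pullback.fst A.hom (S.fromSpecResidueField s) =
          (f.left ≫ B.hom).fiberι s from (Limits.pullback.lift_fst _ _ _).trans (Category.comp_id _)]
      · rw [Category.assoc, show ((Over.pullback (S.fromSpecResidueField s)).map f).left ≫
            Limits.pullback.snd B.hom (S.fromSpecResidueField s) =
            Limits.pullback.snd A.hom (S.fromSpecResidueField s) from Limits.pullback.lift_snd _ _ _,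
          MoreMor.fiberMap]
        refine (Limits.pullback.lift_snd _ _ _).trans ?_
        exact ((Limits.pullback.lift_snd _ _ _).trans (Category.comp_id _)).symm
    rw [h2]
    exact @IsIso.comp_isIso _ _ _ _ _ c.hom _ inferInstance h1
  have : IsIso ((Over.forget S).map f) := hl
  exact isIso_of_reflects_iso f (Over.forget S)

end Groth.RedX

end
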