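import Groth.Agent.RedX.Generated
import Groth.Agent.RedX.FibreIso
import Groth.Agent.Reductive.CentralNhd.Global
import Groth.Agent.Reductive.MTConjLocal

/-!
# The centre of a split reductive group
-/

set_option autoImplicit false
universe u

open CategoryTheory MonoidalCategory CartesianMonoidalCategory MonObj GrpObj AlgebraicGeometry
open Groth.Reductive Groth.Reductive.FreeDiag

noncomputable section

namespace Groth.RedX

attribute [local instance] Reductive.algΓ'

variable {S : Scheme.{u}} {G : Over S} [GrpObj G] (D : Red.SplitRed G)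

/-- The geometric fibre of a splitting. -/
theorem isFull_fibre (s : S) :
    IsFull (bcJ (splitJ D) (Red.geomPt s)) (fun a => D.P.root a) (fun a => bcU (D.u a) (Red.geomPt s)) :=
  ⟨D.P.root.injective, fun a => D.P.ne_zero a, fun a => (isWt_root D a).bc (Red.geomPt s), D.dim_fibre s⟩

theorem fibre_factor {X : Over S} {s : S} {W : Over (Spec (CommRingCat.of (AlgebraicClosure (S.residueField s))))}
    (w : (Over.map (Red.geomPt s)).obj W ⟶ X) (g : X ⟶ G)
    (hg : ∀ (X' : Over S) (x : X' ⟶ X) (t : X' ⟶ Red.DS S D.M),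
      (x ≫ g) * (t ≫ splitJ D) = (t ≫ splitJ D) * (x ≫ g)) :
    ∃ t, t ≫ splitJ D = w ≫ g := by
  obtain ⟨h1, h2, h3, -⟩ := D.reductive.2.2 s
  have := h1; have := h2; have := h3
  obtain ⟨t, ht⟩ := (isFull_fibre D s).exists_factor_of_commute
    ((bcPointEquiv (Red.geomPt s) G W).symm (w ≫ g)) fun X' x t => by
      apply (bcPointEquiv (Red.geomPt s) G X').injective
      rw [map_mul, map_mul, bcPointEquiv_comp, MulEquiv.apply_symm_apply, comp_bcJ, ← Category.assoc]
      exact hg _ _ _
  refine ⟨dsPtEquiv (Red.geomPt s) D.M W t, ?_⟩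
  rw [← comp_bcJ, ht, MulEquiv.apply_symm_apply]

/-- A point commuting with the split torus lies in it. -/
theorem exists_factor_of_commute {X : Over S} (g : X ⟶ G)
    (hg : ∀ (X' : Over S) (x : X' ⟶ X) (t : X' ⟶ Red.DS S D.M),
      (x ≫ g) * (t ≫ splitJ D) = (t ≫ splitJ D) * (x ≫ g)) : ∃ t, t ≫ splitJ D = g := by
  have : IsAffineHom G.hom := D.reductive.1
  have hsm : Smooth G.hom := D.reductive.2.1
  obtain ⟨Z, instZ, z, hz1, hz2, hz3, hz4, hz5⟩ := MTInt.exists_centralizerSep
    (MTInt.locTriv_of_multTypeFT (isMultTypeFT_DS (T := S) (N := D.M) (Module.Finite.iff_addGroup_fg.mp inferInstance)))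
    hsm (splitJ D)
  have := hz1; have := hz2; have := hz4; have := hz5
  obtain ⟨f, hf⟩ := (hz3 _ (splitJ D)).2 fun X' x t => by
    rw [← MonObj.mul_comp _ _ (splitJ D), ← MonObj.mul_comp _ _ (splitJ D), ds_comm]
  have := smooth_DS S D.M
  have : IsIso f := isIso_of_geomFibres f fun s => by
    let p := Red.geomPt s
    let E := bcPointEquiv p (Red.DS S D.M) ((Over.pullback p).obj Z)
    obtain ⟨t, ht⟩ := fibre_factor D (s := s) ((Over.mapPullbackAdj p).counit.app Z) z
      fun X' x t => (hz3 _ z).1 ⟨𝟙 Z, Category.id_comp z⟩ X' x t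
    have htf : t ≫ f = (Over.mapPullbackAdj p).counit.app Z := by
      rw [← cancel_mono z, Category.assoc, hf, ht]
    have : Mono f := mono_of_mono_fac hf
    let ti : (Over.pullback p).obj Z ⟶ (Over.pullback p).obj (Red.DS S D.M) :=
      (Over.mapPullbackAdj p).homEquiv _ _ t
    have h1 : ti ≫ (Over.pullback p).map f = 𝟙 _ := by
      rw [← Adjunction.homEquiv_naturality_right, htf]
      rw [Adjunction.homEquiv_unit]
      exact (Over.mapPullbackAdj p).right_triangle_components Z
    exact ⟨ti, by rw [← cancel_mono ((Over.pullback p).map f), Category.assoc, h1, Category.comp_id,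
      Category.id_comp], h1⟩
  obtain ⟨w, hw⟩ := (hz3 X g).2 hg
  exact ⟨w ≫ inv f, by rw [Category.assoc, ← hf, IsIso.inv_hom_id_assoc, hw]⟩

include D in
theorem connectedSpace_fibre (t : S) :
    ConnectedSpace ↥(Limits.pullback G.hom (S.fromSpecResidueField t)) := by
  have : ConnectedSpace ↥(Limits.pullback G.hom (Red.geomPt t)) := (D.reductive.2.2 t).2.2.1
  let d : Spec (CommRingCat.of (AlgebraicClosure (S.residueField t))) ⟶ Spec (S.residueField t) :=
    Spec.map (CommRingCat.ofHom (algebraMap (S.residueField t) (AlgebraicClosure (S.residueField t))))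
  have hd : Surjective d := ⟨fun y => ⟨IsLocalRing.closedPoint _,
    Subsingleton.elim (α := (Spec (S.residueField t) : Scheme.{u})) _ _⟩⟩
  let q : Limits.pullback G.hom (Red.geomPt t) ⟶ Limits.pullback G.hom (S.fromSpecResidueField t) :=
    Limits.pullback.lift (Limits.pullback.fst _ _) (Limits.pullback.snd _ _ ≫ d)
      (by rw [Category.assoc]; exact Limits.pullback.condition)
  have hq : IsPullback q (Limits.pullback.snd G.hom (Red.geomPt t))
      (Limits.pullback.snd G.hom (S.fromSpecResidueField t)) d := by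
    refine IsPullback.of_right ?_ (Limits.pullback.lift_snd _ _ _) (IsPullback.of_hasPullback _ _)
    rw [show q ≫ Limits.pullback.fst G.hom (S.fromSpecResidueField t) = Limits.pullback.fst _ _ from
      Limits.pullback.lift_fst _ _ _]
    exact IsPullback.of_hasPullback _ _
  have : Surjective q := MorphismProperty.of_isPullback (P := @Surjective) hq.flip hd
  exact q.surjective.connectedSpace q.continuous

/-- A point of the torus on which all roots are trivial is central. -/
theorem commute_of_roots_eq_one {X : Over S} (t : X ⟶ Red.DS S D.M)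
    (ht : ∀ a, dsVal t (Multiplicative.ofAdd (D.P.root a)) = 1) (g : X ⟶ G) :
    g * (t ≫ splitJ D) = (t ≫ splitJ D) * g := by
  let R : Submodule ℤ D.M := Submodule.span ℤ (Set.range fun a => D.P.root a)
  let φ : D.M →+ D.M ⧸ R := R.mkQ.toAddMonoidHom
  let c : Red.DS S (D.M ⧸ R) ⟶ G := Red.DSmap S φ ≫ splitJ D
  have hm : IsMonHom (Red.DSmap S φ) := isMonHom_DSmap' _
  have : IsMonHom c := inferInstanceAs (IsMonHom (Red.DSmap S φ ≫ splitJ D))
  have : IsAffineHom G.hom := D.reductive.1
  have : Smooth G.hom := D.reductive.2.1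
  obtain ⟨U, hU, hUtriv⟩ := CentralNhd.exists_open_central c
    (isMultTypeFT_DS (Module.Finite.iff_addGroup_fg.mp inferInstance)) (connectedSpace_fibre D)
  have htop : U = ⊤ := top_unique fun s _ => by
    rw [hU]
    have e := CentralNhd.trivOn_fieldPoint_iff' c (AlgebraicClosure (S.residueField s)) (Red.geomPt s)
    have e' : (Red.geomPt s).base (IsLocalRing.closedPoint _) = s := by
      rw [Scheme.Hom.comp_apply, Scheme.fromSpecResidueField_apply]
    rw [e'] at e
    rw [← e, CentralNhd.trivOn_commMap_iff]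
    intro W w a b
    obtain ⟨h1, h2, h3, -⟩ := D.reductive.2.2 s
    have := h1; have := h2; have := h3
    let p := Red.geomPt s
    let W' : Over (Spec (CommRingCat.of (AlgebraicClosure (S.residueField s)))) := Over.mk w.left
    let ci : (Over.map p).obj W' ⟶ W := Over.homMk (𝟙 _) (by
      show 𝟙 _ ≫ W.hom = w.left ≫ p
      rw [Category.id_comp]
      exact (Over.w w).symm)
    let ci' : W ⟶ (Over.map p).obj W' := Over.homMk (𝟙 _) (by
      show 𝟙 _ ≫ w.left ≫ p = W.hom
      rw [Category.id_comp]
      exact Over.w w)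
    have hci : ci' ≫ ci = 𝟙 W := Over.OverMorphism.ext (Category.id_comp _)
    have key := (isFull_fibre D s).central φ (fun i => (Submodule.Quotient.mk_eq_zero R).2 (Submodule.subset_span ⟨i, rfl⟩))
      ((bcPointEquiv p G W').symm (ci ≫ a)) ((dsPtEquiv p _ W').symm (ci ≫ b))
    have key' := congrArg (bcPointEquiv p G W') key
    have hc : bcPointEquiv p G W' ((dsPtEquiv p _ W').symm (ci ≫ b) ≫
        Red.DSmap _ φ ≫ bcJ (splitJ D) p) = ci ≫ b ≫ c := by
      rw [← Category.assoc ((dsPtEquiv p _ W').symm (ci ≫ b)), comp_bcJ, ← Category.assoc ci b c,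
        show c = Red.DSmap S φ ≫ splitJ D from rfl, ← Category.assoc (ci ≫ b)]
      congr 1
      refine dsVal_ext fun m => ?_
      rw [dsVal_dsPtEquiv, dsVal_DSmap, dsVal_DSmap, ← dsVal_dsPtEquiv p W' _ (AddMonoidHom.toMultiplicative φ m),
        MulEquiv.apply_symm_apply]
    rw [map_mul, map_mul, MulEquiv.apply_symm_apply, hc, ← MonObj.comp_mul, ← MonObj.comp_mul] at key'
    have h' := ci' ≫= key'
    simpa only [reassoc_of% hci, Category.assoc, c] using h'
  subst htop
  have hc := (CentralNhd.trivOn_commMap_iff c).1 hUtriv X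
    (Over.homMk (X.hom ≫ S.topIso.inv) (by
      show (X.hom ≫ S.topIso.inv) ≫ (⊤ : S.Opens).ι = X.hom
      rw [Category.assoc, ← S.topIso_hom, Iso.inv_hom_id, Category.comp_id]))
  let χ : Multiplicative D.M →* (Γ(X.left, ⊤))ˣ := (dsValHom t).toHomUnits
  let l : D.M →ₗ[ℤ] Additive (Γ(X.left, ⊤))ˣ := (AddMonoidHom.toMultiplicativeLeft.symm χ).toIntLinearMap
  have hl : R ≤ LinearMap.ker l := Submodule.span_le.2 fun m hm => by
    obtain ⟨i, rfl⟩ := hm
    exact Additive.toMul.injective (Units.ext (ht i))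
  let χ' : Multiplicative (D.M ⧸ R) →* (Γ(X.left, ⊤))ˣ :=
    AddMonoidHom.toMultiplicativeLeft (R.liftQ l hl).toAddMonoidHom
  let t' : X ⟶ Red.DS S (D.M ⧸ R) := dsMk X ((Units.coeHom _).comp χ')
  have htt : t' ≫ Red.DSmap S φ = t := dsVal_ext fun m => by
    rw [dsVal_DSmap, dsVal_dsMk]
    rfl
  have h := hc g t'
  rwa [show c = Red.DSmap S φ ≫ splitJ D from rfl, ← Category.assoc, htt] at h

/-- **The centre of a split reductive group is the intersection of the kernels of the roots.** -/
theorem central_iff {X : Over S} (g : X ⟶ G) :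
    (∀ (X' : Over S) (x : X' ⟶ X) (h : X' ⟶ G), (x ≫ g) * h = h * (x ≫ g)) ↔
      ∃ t : X ⟶ D.T, t ≫ D.i = g ∧ ∀ a : D.idx, t ≫ D.split.hom.hom.hom ≫ Red.chi S (D.P.root a) = 1 := by
  constructor
  · intro hg
    obtain ⟨t, ht⟩ := exists_factor_of_commute D g fun X' x t => hg X' x _
    refine ⟨t ≫ D.split.inv.hom.hom, by rw [Category.assoc]; exact ht, fun a => ?_⟩
    rw [Category.assoc, ← Category.assoc D.split.inv.hom.hom, split_inv_hom', Category.id_comp]
    refine gmFn_injective ?_
    rw [gmFn_chi, gmFn_one]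
    exact (isWt_root D a).eq_one_of_commute t (by
      rw [ht]
      simpa using hg X (𝟙 X) (gaMk X 1 ≫ D.u a))
  · rintro ⟨t, rfl, ht⟩ X' x h
    have := commute_of_roots_eq_one D (x ≫ t ≫ D.split.hom.hom.hom) (fun a => by
      have h1 := congrArg Red.gmFn (x ≫= ht a)
      rw [MonObj.comp_one, gmFn_one, ← Category.assoc x, ← Category.assoc (x ≫ t), gmFn_chi] at h1
      rw [← Category.assoc x]
      exact h1) h
    rw [Category.assoc, Category.assoc, split_hom_splitJ] at this
    exact this.symm

end Groth.RedX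

end
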