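import Groth.Agent.RedX.Tangent
import Groth.Agent.RedX.SmoothTorus
import Groth.Agent.Reductive.MTImm
import Groth.Agent.Reductive.MTClosedLocus
import Groth.Agent.S3908

/-!
# A split reductive group over an algebraically closed field is generated by torus and root groups
-/

set_option autoImplicit false
universe u

open CategoryTheory MonoidalCategory CartesianMonoidalCategory MonObj GrpObj AlgebraicGeometry
open scoped DualNumber

noncomputable section

namespace Groth.RedX

open Groth.Agf Groth.Reductive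

variable {k : Type u} [Field k] {G : Over (S₀ k)} [GrpObj G] [IsAffine G.left]
  {M : Type} [AddCommGroup M] {J : Type} [Fintype J]

/-- A split torus with root subgroups accounting for the whole dimension. -/
structure IsFull (j : Red.DS (S₀ k) M ⟶ G) (r : J → M) (u : J → (Red.Ga (S₀ k) ⟶ G)) : Prop where
  inj : Function.Injective r
  ne_zero : ∀ a, r a ≠ 0
  wt : ∀ a, IsWt j (r a) (u a)
  dim : topologicalKrullDim G.left = ((Module.finrank ℤ M + Fintype.card J : ℕ) : WithBot ℕ∞)

theorem IsTan.ext {x y : VecGrp.pt k k[ε] ⟶ G} (hx : IsTan x) (hy : IsTan y) (h : tan x = tan y) : x = y :=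
  pt_ext (AlgHom.ext fun f => TrivSqZeroExt.ext (by rw [hx.fst, hy.fst])
    (by rw [← tan_apply, ← tan_apply, h]))

variable [IsAlgClosed k] [Smooth G.hom] [ConnectedSpace G.left] [Module.Finite ℤ M] [Module.Free ℤ M]
  {j : Red.DS (S₀ k) M ⟶ G} [IsMonHom j] [Mono j] {r : J → M} {u : J → (Red.Ga (S₀ k) ⟶ G)}

theorem locTriv_DS (N : Type) [AddCommGroup N] [Module.Finite ℤ N] :
    MTInt.LocTriv (Red.DS (S₀ k) N) :=
  MTInt.locTriv_of_multTypeFT (FreeDiag.isMultTypeFT_DS (Module.Finite.iff_addGroup_fg.mp inferInstance))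

/-- The torus is its own centralizer. -/
theorem IsFull.exists_factor_of_commute (h : IsFull j r u) {X : Over (S₀ k)} (g : X ⟶ G)
    (hg : ∀ (X' : Over (S₀ k)) (x : X' ⟶ X) (t : X' ⟶ Red.DS (S₀ k) M),
      (x ≫ g) * (t ≫ j) = (t ≫ j) * (x ≫ g)) : ∃ t, t ≫ j = g := by
  have : IsSeparated G.hom := inferInstance
  obtain ⟨Z, instZ, z, hz1, hz2, hz3, hz4, hz5⟩ := MTInt.exists_centralizerSep (locTriv_DS M) ‹_› j
  have := hz1; have := hz2; have := hz4; have := hz5
  have : IsAffine Z.left := isAffine_of_isAffineHom z.left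
  have : ConnectedSpace Z.left :=
    Agent.S3908.result k G (Red.DS (S₀ k) M) j (isTorus_DS _ M) Z z ⟨hz1, hz2, hz3⟩
  obtain ⟨f, hf⟩ := (hz3 _ j).2 fun X' x t => by
    rw [← MonObj.mul_comp _ _ j, ← MonObj.mul_comp _ _ j, ds_comm]
  have : IsMonHom f := AlgGrp1.isMonHom_of_points f fun X a b => by
    rw [← cancel_mono z, MonObj.mul_comp _ _ z, Category.assoc, Category.assoc, Category.assoc, hf,
      MonObj.mul_comp _ _ j]
  have hjc : IsClosedImmersion j.left := MTInt.isClosedImmersion_of_mono (locTriv_DS M) inferInstance j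
  have : IsClosedImmersion f.left := by
    have : IsClosedImmersion (f.left ≫ z.left) := by rw [← Over.comp_left, hf]; exact hjc
    exact IsClosedImmersion.of_comp f.left z.left
  have := smooth_DS (S₀ k) M
  have : IsIso f := isIso_of_forall_tangent (G := Z) f fun y hy => by
    have hx : IsTan (y ≫ z) := by
      rw [IsTan, ← Category.assoc, hy, MonObj.one_comp]
    have hfix : ∀ χ : Multiplicative M →* kˣ,
        (conjC (tpt χ ≫ j)).toLinearMap.dualMap (tan (y ≫ z)) = tan (y ≫ z) := fun χ => by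
      refine LinearMap.ext fun a => ?_
      show tan _ (conjC _ a) = _
      rw [tan_conj, cst_tpt]
      have hc := (hz3 _ (y ≫ z)).1 ⟨y, rfl⟩ _ (𝟙 _) (tpt ((Units.map (Algebra.ofId k k[ε] : k →* k[ε])).comp χ))
      rw [Category.id_comp] at hc
      rw [← hc, mul_inv_cancel_right]
    obtain ⟨v, hv⟩ := (exists_decomp h.inj h.ne_zero (fun a => (h.wt a).isWeightHom) h.dim hx).2 hfix
    refine ⟨tpt (expChar v), ?_⟩
    rw [← cancel_mono z, Category.assoc, hf]
    exact (isTan_tpt j v).ext hx ((torTan_eq j v).symm.trans hv)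
  obtain ⟨w, hw⟩ := (hz3 X g).2 fun X' x t => hg X' x t
  exact ⟨w ≫ inv f, by rw [Category.assoc, ← hf, IsIso.inv_hom_id_assoc, hw]⟩

/-- A subgroup of the torus killed by all roots is central. -/
theorem IsFull.central (h : IsFull j r u) {N : Type} [AddCommGroup N] [Module.Finite ℤ N] (φ : M →+ N)
    (hφ : ∀ a, φ (r a) = 0) {X : Over (S₀ k)} (g : X ⟶ G) (c : X ⟶ Red.DS (S₀ k) N) :
    g * (c ≫ Red.DSmap (S₀ k) φ ≫ j) = (c ≫ Red.DSmap (S₀ k) φ ≫ j) * g := by
  have := isMonHom_DSmap' (S := S₀ k) φ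
  obtain ⟨Z, instZ, z, hz1, hz2, hz3, hz4, hz5⟩ :=
    MTInt.exists_centralizerSep (locTriv_DS N) ‹_› (Red.DSmap (S₀ k) φ ≫ j)
  have := hz1; have := hz2; have := hz4; have := hz5
  have : IsAffine Z.left := isAffine_of_isAffineHom z.left
  obtain ⟨f, hf⟩ := (hz3 _ j).2 fun X' x t => by
    rw [← Category.assoc t, ← MonObj.mul_comp _ _ j, ← MonObj.mul_comp _ _ j, ds_comm]
  have hv : ∀ a, ∃ y, y ≫ z = u a := fun a => (hz3 _ (u a)).2 fun X' x t => by
    rw [← Category.assoc t]
    refine ((h.wt a).commute _ x ?_).symm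
    rw [dsVal_DSmap, AddMonoidHom.toMultiplicative_apply_apply, toAdd_ofAdd, hφ, ofAdd_zero]
    exact map_one (dsValHom t)
  have : IsIso z := isIso_of_forall_tangent z fun x hx => by
    refine exists_lift_of_kills z x fun a ha => TrivSqZeroExt.ext ?_ ?_
    · rw [hx.fst, ← MonObj.one_comp z, evalPt_comp_apply, ha, map_zero, TrivSqZeroExt.fst_zero]
    · rw [← tan_apply, TrivSqZeroExt.snd_zero]
      let K : Submodule k (Fn G →ₗ[k] k) := LinearMap.ker (LinearMap.applyₗ a)
      have hK : LinearMap.range (torTan j) ⊔ Submodule.span k (Set.range (rootTan u)) ≤ K := by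
        refine sup_le ?_ (Submodule.span_le.2 ?_)
        · rintro _ ⟨v, rfl⟩
          show torTan j v a = 0
          rw [torTan_eq, tan_apply, ← hf, ← Category.assoc, evalPt_comp_apply, ha, map_zero,
            TrivSqZeroExt.snd_zero]
        · rintro _ ⟨b, rfl⟩
          obtain ⟨y, hy⟩ := hv b
          show rootTan u b a = 0
          rw [rootTan, tan_apply, ← hy, ← Category.assoc, evalPt_comp_apply, ha, map_zero,
            TrivSqZeroExt.snd_zero]
      exact hK (exists_decomp h.inj h.ne_zero (fun a => (h.wt a).isWeightHom) h.dim hx).1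
  have h' := (hz3 X g).1 ⟨g ≫ inv z, by rw [Category.assoc, IsIso.inv_hom_id, Category.comp_id]⟩ X (𝟙 X) c
  rwa [Category.id_comp] at h'

end Groth.RedX

end
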