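import Groth.Agent.RedX.Weights

/-!
# An element of the normaliser of a torus cannot induce a nontrivial unipotent automorphism
-/

set_option autoImplicit false
universe u

open CategoryTheory MonoidalCategory CartesianMonoidalCategory MonObj GrpObj AlgebraicGeometry
open scoped TensorProduct

noncomputable section

namespace Groth.RedX

open Groth.Agf

variable {k : Type u} [Field k] {G : Over (S₀ k)} [GrpObj G] [IsAffine G.left]

/-- Matrix coefficients as linear functions of the vector. -/
def coeffL {M : Type u} [AddCommGroup M] [Module k M] (ρ : VecGrp.GMod G M) (ψ : M →ₗ[k] k) :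
    M →ₗ[k] Fn G :=
  ((contract ψ (Fn G)).comp ((ρ.ρ (Fn G) (univ G)).toLinearMap.restrictScalars k)).comp
    (TensorProduct.mk k (Fn G) M 1)

theorem coeffL_apply {M : Type u} [AddCommGroup M] [Module k M] (ρ : VecGrp.GMod G M) (ψ : M →ₗ[k] k)
    (m : M) : coeffL ρ ψ m = coeffFn ρ ψ m := rfl

/-- A function is its own matrix coefficient in the regular representation. -/
theorem coeffFn_regRep (f : Fn G) :
    coeffFn (regRep G) (evalPt (1 : VecGrp.pt k k ⟶ G)).toLinearMap f = f := by
  let Φ : Fn G ⊗[k] Fn G →ₐ[k] Fn G := Algebra.TensorProduct.lift (AlgHom.id k _)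
    ((Algebra.ofId k (Fn G)).comp (evalPt (1 : VecGrp.pt k k ⟶ G))) fun _ _ => Commute.all _ _
  have hΦ : ∀ z, contract (evalPt (1 : VecGrp.pt k k ⟶ G)).toLinearMap (Fn G) z = Φ z := by
    intro z
    induction z using TensorProduct.induction_on with
    | zero => simp
    | tmul a b => simp [Φ, Algebra.smul_def, Algebra.ofId_apply, mul_comm]
    | add p q hp hq => simp [hp, hq]
  rw [coeffFn, coact, regRep_apply, hΦ, rTransAlg, ← AlgHom.comp_apply, ← evalPt_ptMap, MonObj.comp_mul]
  have e1 : VecGrp.ptMap Φ ≫ VecGrp.ptMap (Algebra.TensorProduct.includeRight : Fn G →ₐ[k] Fn G ⊗[k] Fn G) ≫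
      univ G = cst 1 := by
    apply pt_ext
    rw [evalPt_ptMap, evalPt_ptMap, evalPt_univ, AlgHom.comp_id, cst, evalPt_ptMap]
    refine AlgHom.ext fun a => ?_
    simp [Φ]
  have e2 : VecGrp.ptMap Φ ≫ VecGrp.ptMap (Algebra.TensorProduct.includeLeft : Fn G →ₐ[k] Fn G ⊗[k] Fn G) ≫
      univ G = univ G := by
    apply pt_ext
    rw [evalPt_ptMap, evalPt_ptMap, evalPt_univ, AlgHom.comp_id]
    refine AlgHom.ext fun a => ?_
    simp [Φ]
  rw [e1, e2, cst, MonObj.comp_one, _root_.one_mul, evalPt_univ]
  rfl

/-- A finite set of functions lies in a finite-dimensional space stable under conjugation. -/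
theorem exists_conj_stable (s : Finset (Fn G)) : ∃ C : Submodule k (Fn G), Module.Finite k C ∧
    ↑s ⊆ (C : Set (Fn G)) ∧ ∀ g : VecGrp.pt k k ⟶ G, ∀ f ∈ C, conjC g f ∈ C := by
  classical
  let ρ := regRep G
  obtain ⟨V, hV, hsV, hst⟩ := exists_finite_stable ρ s
  let C : Submodule k (Fn G) := Submodule.span k {c | ∃ ψ, ∃ v ∈ V, c = coeffFn ρ ψ v}
  refine ⟨C, ?_, fun f hf => Submodule.subset_span ⟨_, f, hsV hf, (coeffFn_regRep f).symm⟩, fun g => ?_⟩
  · obtain ⟨F, hF⟩ := Module.Finite.iff_fg.1 hV
    choose c hc using fun m : Fn G => TensorProduct.exists_finset (coact ρ m)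
    let F' : Finset (Fn G) := F.biUnion fun m => (c m).image Prod.fst
    have hle : C ≤ Submodule.span k (F' : Set (Fn G)) := by
      rw [Submodule.span_le]
      rintro _ ⟨ψ, v, hv, rfl⟩
      rw [← hF] at hv
      have : Submodule.span k (F : Set (Fn G)) ≤ (Submodule.span k (F' : Set (Fn G))).comap (coeffL ρ ψ) := by
        rw [Submodule.span_le]
        intro m hm
        show coeffFn ρ ψ m ∈ Submodule.span k (F' : Set (Fn G))
        rw [coeffFn, hc m, map_sum]
        refine Submodule.sum_mem _ fun p hp => ?_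
        rw [contract_tmul]
        exact Submodule.smul_mem _ _ (Submodule.subset_span
          (Finset.mem_coe.2 (Finset.mem_biUnion.2 ⟨m, hm, Finset.mem_image_of_mem _ hp⟩)))
      exact this hv
    have : Module.Finite k (Submodule.span k (F' : Set (Fn G))) := Module.Finite.span_of_finite k F'.finite_toSet
    exact Submodule.finiteDimensional_of_le hle
  · show C ≤ C.comap (conjC g).toLinearMap
    rw [Submodule.span_le]
    rintro _ ⟨ψ, v, hv, rfl⟩
    refine Submodule.subset_span ⟨((contract ψ k).comp (ρ.ρ k g).toLinearMap).comp (TensorProduct.mk k k _ 1),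
      TensorProduct.lid k _ (ρ.ρ k g⁻¹ ((1 : k) ⊗ₜ v)), ?_, ?_⟩
    · have h := hst k g⁻¹ v hv
      rw [Category.comp_id, ← range_incl] at h
      obtain ⟨z, hz⟩ := h
      rw [← hz]
      clear hz
      induction z using TensorProduct.induction_on with
      | zero => simp
      | tmul a b => simpa using V.smul_mem a b.2
      | add p q hp hq => rw [map_add, map_add]; exact add_mem hp hq
    · show conjC g (coeffFn ρ ψ v) = _
      rw [conjC, evalPt_coeffFn, rho_mul_apply, rho_mul_apply]
      have e1 : ρ.ρ (Fn G) (cst g)⁻¹ ((1 : Fn G) ⊗ₜ[k] v) =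
          (1 : Fn G) ⊗ₜ[k] TensorProduct.lid k _ (ρ.ρ k g⁻¹ ((1 : k) ⊗ₜ v)) := by
        have h := ρ.naturality (Algebra.ofId k (Fn G)) g⁻¹ ((1 : k) ⊗ₜ v)
        rw [GrpObj.comp_inv, VecGrp.Wmap_tmul, map_one] at h
        refine h.symm.trans ?_
        induction ρ.ρ k g⁻¹ ((1 : k) ⊗ₜ v) using TensorProduct.induction_on with
        | zero => simp
        | tmul a b => rw [VecGrp.Wmap_tmul, TensorProduct.lid_tmul, ← TensorProduct.smul_tmul, Algebra.ofId_apply, Algebra.algebraMap_eq_smul_one]
        | add p q hp hq => simp [hp, hq, TensorProduct.tmul_add]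
      rw [e1]
      show _ = contract _ (Fn G) (ρ.ρ (Fn G) (univ G) _)
      generalize ρ.ρ (Fn G) (univ G) _ = y
      induction y using TensorProduct.induction_on with
      | zero => simp
      | add p q hp hq => simp only [map_add, hp, hq]
      | tmul a m =>
        have h := ρ.naturality (Algebra.ofId k (Fn G)) g ((1 : k) ⊗ₜ m)
        rw [VecGrp.Wmap_tmul, map_one] at h
        rw [rho_tmul, contract_smul, cst, ← h, contract_Wmap, contract_tmul]
        simp [Algebra.smul_def, Algebra.ofId_apply, mul_comm]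

variable {M : Type} [AddCommGroup M]

/-- An element of the normaliser cannot act on the characters by a nontrivial transvection. -/
theorem transvection_eq_zero [Infinite k] [LocallyOfFiniteType G.hom] [Module.IsTorsionFree ℤ M]
    (j : Red.DS (S₀ k) M ⟶ G) [IsMonHom j] [Mono j] (g : VecGrp.pt k k ⟶ G)
    (α : M) (hα : α ≠ 0) (h : M →+ ℤ) (hhα : h α = 0) (w : M →+ M) (hw : ∀ x, w x = x + h x • α)
    (hg : ∀ (B : Type u) [CommRing B] [Algebra k B] (χ : Multiplicative M →* Bˣ),
      cst g * (tpt χ ≫ j) * (cst g)⁻¹ = tpt (χ.comp (AddMonoidHom.toMultiplicative w)) ≫ j) : h = 0 := by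
  classical
  have := fn_finiteType G
  obtain ⟨s, hs⟩ := (Algebra.FiniteType.out : (⊤ : Subalgebra k (Fn G)).FG)
  obtain ⟨C, hC, hsC, hconj⟩ := exists_conj_stable s
  let p := evalPt (torUniv k M ≫ j)
  let W := MonoidAlgebra.mapDomainAlgHom k k (AddMonoidHom.toMultiplicative w)
  have hW : ∀ f, p (conjC g f) = W (p f) := fun f => by
    have e1 : VecGrp.ptMap W ≫ torUniv k M ≫ j =
        tpt ((MonoidAlgebra.of k (Multiplicative M)).toHomUnits.comp (AddMonoidHom.toMultiplicative w)) ≫ j := by
      rw [torUniv, ptMap_comp_assoc (ptMap_tpt _ _)]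
      congr 2
      refine MonoidHom.ext fun m => Units.ext ?_
      simp [W]
    show evalPt _ _ = _
    rw [← AlgHom.comp_apply, evalPt_conjC, torUniv, hg, ← e1, evalPt_ptMap]
    rfl
  obtain ⟨F, hF⟩ := Module.Finite.iff_fg.1 hC
  let S : Finset (Multiplicative M) := F.biUnion fun f => (p f).coeff.support
  have hS : ∀ f ∈ C, (p f).coeff.support ⊆ S := by
    intro f hf
    rw [← hF] at hf
    induction hf using Submodule.span_induction with
    | zero => simp
    | mem x hx => exact Finset.subset_biUnion_of_mem (fun f => (p f).coeff.support) hx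
    | add a b _ _ ha hb =>
      rw [map_add, MonoidAlgebra.coeff_add]
      exact Finsupp.support_add.trans (Finset.union_subset ha hb)
    | smul c a _ ha =>
      rw [map_smul, MonoidAlgebra.coeff_smul]
      exact Finsupp.support_smul.trans ha
  have hwinj : Function.Injective w := (injective_iff_map_eq_zero w).2 fun x hx => by
    have h1 := congrArg h hx
    simp only [hw, map_add, map_zsmul, hhα, smul_zero, add_zero, map_zero] at h1
    simpa [hw, h1] using hx
  have hker : ∀ f ∈ C, ∀ m ∈ (p f).coeff.support, h m.toAdd = 0 := by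
    intro f hf m hm
    by_contra hne
    have hiter : ∀ n : ℕ, ∃ f' ∈ C, Multiplicative.ofAdd (m.toAdd + ((n : ℤ) * h m.toAdd) • α) ∈
        (p f').coeff.support := by
      intro n
      induction n with
      | zero => exact ⟨f, hf, by simpa using hm⟩
      | succ n ih =>
        obtain ⟨f', hf', hm'⟩ := ih
        refine ⟨conjC g f', hconj g f' hf', ?_⟩
        have hwi : Function.Injective (AddMonoidHom.toMultiplicative w) := fun a b hab =>
          Multiplicative.toAdd.injective (hwinj (congrArg Multiplicative.toAdd hab))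
        rw [hW]
        show _ ∈ (MonoidAlgebra.mapDomain _ (p f')).coeff.support
        rw [MonoidAlgebra.coeff_mapDomain, Finsupp.mapDomain_support_of_injective hwi]
        refine Finset.mem_image.2 ⟨_, hm', Multiplicative.toAdd.injective ?_⟩
        show w (m.toAdd + ((n : ℤ) * h m.toAdd) • α) = m.toAdd + (((n + 1 : ℕ) : ℤ) * h m.toAdd) • α
        rw [hw]
        simp only [map_add, map_zsmul, hhα, smul_zero, add_zero, Nat.cast_add, Nat.cast_one, add_mul,
          _root_.one_mul, add_smul, add_assoc]
    have hmem : ∀ n : ℕ, Multiplicative.ofAdd (m.toAdd + ((n : ℤ) * h m.toAdd) • α) ∈ S := fun n => by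
      obtain ⟨f', hf', hm'⟩ := hiter n
      exact hS f' hf' hm'
    refine not_injective_infinite_finite (fun n : ℕ => (⟨_, hmem n⟩ : {x // x ∈ S})) fun a b hab => ?_
    · have h1 := congrArg (fun x : {x // x ∈ S} => x.1.toAdd) hab
      simp only [toAdd_ofAdd, add_right_inj] at h1
      exact_mod_cast mul_right_cancel₀ hne (smul_left_injective ℤ hα h1)
  refine AddMonoidHom.ext fun x => by_contra fun hx => ?_
  obtain ⟨c, hc⟩ := exists_zpow_ne (k := k) {h x}
  let χ : Multiplicative M →* kˣ := (zpowersHom kˣ c).comp (AddMonoidHom.toMultiplicative h)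
  have hfix : ∀ f ∈ C, evalPt (tpt χ ≫ j) f = evalPt (1 : VecGrp.pt k k ⟶ G) f := by
    intro f hf
    have h1 : tpt (k := k) (1 : Multiplicative M →* kˣ) ≫ j = 1 := by rw [tpt_one, MonObj.one_comp]
    rw [← h1, ← ptMap_torUniv χ, ← ptMap_torUniv (1 : Multiplicative M →* kˣ), Category.assoc,
      Category.assoc, evalPt_ptMap, evalPt_ptMap, AlgHom.comp_apply, AlgHom.comp_apply,
      MonoidAlgebra.lift_apply, MonoidAlgebra.lift_apply]
    refine Finset.sum_congr rfl fun m hm => ?_
    have : h m.toAdd = 0 := hker f hf m hm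
    simp [χ, this]
  have hone : tpt χ ≫ j = 1 := pt_ext (AlgHom.ext_of_adjoin_eq_top hs fun f hf => hfix f (hsC hf))
  have hχ : χ = 1 := tpt_injective (by rw [← cancel_mono j, hone, tpt_one, MonObj.one_comp])
  refine hc (h x) (Finset.mem_singleton_self _) hx ?_
  simpa [χ] using congrArg (fun v : kˣ => (v : k)) (DFunLike.congr_fun hχ (Multiplicative.ofAdd x))

end Groth.RedX

end
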