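import Groth.Agent.RedX.Weights
import Groth.Agent.Reductive.FreeDiagDescent
import Groth.Prelude.Def_Red2

/-!
# Split tori and root homomorphisms over a base, on points
-/

set_option autoImplicit false
universe u

open CategoryTheory MonoidalCategory CartesianMonoidalCategory MonObj GrpObj AlgebraicGeometry

noncomputable section

namespace Groth.RedX

open Reductive Reductive.FreeDiag

attribute [local instance] Reductive.algΓ'

variable {S : Scheme.{u}} {G : Over S} [GrpObj G] {M : Type} [AddCommGroup M]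

theorem ds_comm {X : Over S} (x y : X ⟶ Red.DS S M) : x * y = y * x :=
  dsVal_ext fun m => by rw [dsVal_mul, dsVal_mul, mul_comm]

/-- An additive subgroup normalised by a split torus with character `m`. -/
structure IsWt (j : Red.DS S M ⟶ G) (m : M) (u : Red.Ga S ⟶ G) : Prop where
  map_one : ∀ X : Over S, (1 : X ⟶ Red.Ga S) ≫ u = 1
  mono : Mono u
  conj : ∀ (X : Over S) (t : X ⟶ Red.DS S M) (x : X ⟶ Red.Ga S),
    (t ≫ j) * (x ≫ u) * (t ≫ j)⁻¹ = gaMk X (dsVal t (Multiplicative.ofAdd m) * Red.gaFn x) ≫ u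

variable {j : Red.DS S M ⟶ G} {m : M} {u : Red.Ga S ⟶ G}

theorem IsWt.commute (h : IsWt j m u) {X : Over S} (t : X ⟶ Red.DS S M) (x : X ⟶ Red.Ga S)
    (ht : dsVal t (Multiplicative.ofAdd m) = 1) : (t ≫ j) * (x ≫ u) = (x ≫ u) * (t ≫ j) := by
  have h1 := h.conj X t x
  rw [ht, _root_.one_mul, show gaMk X (Red.gaFn x) = x from gaFn_injective (gaFn_gaMk _),
    mul_inv_eq_iff_eq_mul] at h1
  exact h1

theorem IsWt.eq_one_of_commute (h : IsWt j m u) {X : Over S} (t : X ⟶ Red.DS S M)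
    (ht : (t ≫ j) * (gaMk X 1 ≫ u) = (gaMk X 1 ≫ u) * (t ≫ j)) : dsVal t (Multiplicative.ofAdd m) = 1 := by
  have h1 := h.conj X t (gaMk X 1)
  rw [ht, mul_inv_cancel_right, gaFn_gaMk, _root_.mul_one] at h1
  have := h.mono
  have h2 := congrArg Red.gaFn ((cancel_mono u).1 h1)
  rw [gaFn_gaMk, gaFn_gaMk] at h2
  exact h2.symm

section bc

variable {T : Scheme.{u}} (g : T ⟶ S)

/-- Points of the additive group do not see the base. -/
def gaPtEquiv (Z : Over T) : (Z ⟶ Red.Ga T) ≃* ((Over.map g).obj Z ⟶ Red.Ga S) where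
  toFun h := gaMk (S := S) ((Over.map g).obj Z) (Red.gaFn (S := T) (X := Z) h)
  invFun h := gaMk (S := T) Z (Red.gaFn (S := S) (X := (Over.map g).obj Z) h)
  left_inv _ := gaFn_injective ((gaFn_gaMk (S := T) (X := Z) _).trans (gaFn_gaMk (S := S) (X := (Over.map g).obj Z) _))
  right_inv _ := gaFn_injective ((gaFn_gaMk (S := S) (X := (Over.map g).obj Z) _).trans (gaFn_gaMk (S := T) (X := Z) _))
  map_mul' a b := gaFn_injective (by
    refine (gaFn_gaMk (S := S) (X := (Over.map g).obj Z) _).trans ?_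
    rw [gaFn_mul, gaFn_mul, gaFn_gaMk, gaFn_gaMk])

theorem gaFn_gaPtEquiv (Z : Over T) (x : Z ⟶ Red.Ga T) :
    Red.gaFn (gaPtEquiv g Z x) = Red.gaFn x := gaFn_gaMk (S := S) (X := (Over.map g).obj Z) _

theorem dsVal_dsPtEquiv (Z : Over T) (x : Z ⟶ Red.DS T M) (m : Multiplicative M) :
    dsVal (dsPtEquiv g M Z x) m = dsVal x m := dsVal_dsMk (S := S) ((Over.map g).obj Z) _ m

theorem gaPtEquiv_comp {Z W : Over T} (z : W ⟶ Z) (x : Z ⟶ Red.Ga T) :
    gaPtEquiv g W (z ≫ x) = (Over.map g).map z ≫ gaPtEquiv g Z x := gaFn_injective (by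
  refine (gaFn_gaMk (S := S) (X := (Over.map g).obj W) _).trans ((gaFn_comp z x).trans ?_)
  refine Eq.trans ?_ (gaFn_comp ((Over.map g).map z) (gaPtEquiv g Z x)).symm
  exact congrArg z.left.appTop (gaFn_gaMk (S := S) (X := (Over.map g).obj Z) _).symm)

variable (j u)

/-- Base change of a homomorphism from a split torus. -/
def bcJ : Red.DS T M ⟶ Red.bc g G := (bcPointEquiv g G _).symm (dsPtEquiv g M _ (𝟙 _) ≫ j)

/-- Base change of a morphism from the additive group. -/
def bcU : Red.Ga T ⟶ Red.bc g G := (bcPointEquiv g G _).symm (gaPtEquiv g _ (𝟙 _) ≫ u)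

theorem comp_bcJ {Z : Over T} (x : Z ⟶ Red.DS T M) :
    bcPointEquiv g G Z (x ≫ bcJ j g) = dsPtEquiv g M Z x ≫ j := by
  rw [bcJ, bcPointEquiv_comp, MulEquiv.apply_symm_apply, ← Category.assoc, ← dsPtEquiv_comp, Category.comp_id]

theorem comp_bcU {Z : Over T} (x : Z ⟶ Red.Ga T) :
    bcPointEquiv g G Z (x ≫ bcU u g) = gaPtEquiv g Z x ≫ u := by
  rw [bcU, bcPointEquiv_comp, MulEquiv.apply_symm_apply, ← Category.assoc, ← gaPtEquiv_comp, Category.comp_id]

instance isMonHom_bcJ [IsMonHom j] : IsMonHom (bcJ j g) :=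
  AlgGrp1.isMonHom_of_points _ fun X a b => by
    apply (bcPointEquiv g G X).injective
    rw [map_mul, comp_bcJ, comp_bcJ, comp_bcJ, map_mul, MonObj.mul_comp _ _ j]

instance mono_bcJ [Mono j] : Mono (bcJ j g) := ⟨fun {X} a b h => (dsPtEquiv g M X).injective
  ((cancel_mono j).1 (by rw [← comp_bcJ, ← comp_bcJ, h]))⟩

variable {j u}

theorem IsWt.bc (h : IsWt j m u) : IsWt (bcJ j g) m (bcU u g) := by
  refine ⟨fun X => ?_, ⟨fun {X} a b e => ?_⟩, fun X t x => ?_⟩
  · apply (bcPointEquiv g G X).injective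
    exact (comp_bcU u g 1).trans ((congrArg (· ≫ u) (_root_.map_one (gaPtEquiv g X))).trans ((h.map_one _).trans (_root_.map_one (bcPointEquiv g G X)).symm))
  · have := h.mono
    exact (gaPtEquiv g X).injective ((cancel_mono u).1 (by rw [← comp_bcU, ← comp_bcU, e]))
  · apply (bcPointEquiv g G X).injective
    rw [map_mul, map_mul, map_inv, comp_bcJ, comp_bcU, comp_bcU, h.conj]
    congr 1
    apply gaFn_injective
    rw [gaFn_gaMk, gaFn_gaPtEquiv, gaFn_gaPtEquiv, gaFn_gaMk, dsVal_dsPtEquiv]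

end bc

/-- The split torus of a splitting. -/
def splitJ (D : Red.SplitRed G) : Red.DS S D.M ⟶ G := D.split.inv.hom.hom ≫ D.i

instance isMonHom_splitJ (D : Red.SplitRed G) : IsMonHom (splitJ D) := by
  have := D.maximalTorus.1
  have : IsMonHom D.split.inv.hom.hom := D.split.inv.hom.isMonHom_hom
  unfold splitJ; infer_instance

theorem split_inv_hom' (D : Red.SplitRed G) : D.split.inv.hom.hom ≫ D.split.hom.hom.hom = 𝟙 _ :=
  congrArg (fun f : Grp.mk (Red.DS S D.M) ⟶ Grp.mk (Red.DS S D.M) => f.hom.hom) D.split.inv_hom_id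

theorem split_hom_inv' (D : Red.SplitRed G) : D.split.hom.hom.hom ≫ D.split.inv.hom.hom = 𝟙 _ :=
  congrArg (fun f : Grp.mk D.T ⟶ Grp.mk D.T => f.hom.hom) D.split.hom_inv_id

theorem split_hom_splitJ (D : Red.SplitRed G) : D.split.hom.hom.hom ≫ splitJ D = D.i := by
  rw [splitJ, ← Category.assoc, split_hom_inv', Category.id_comp]

instance mono_splitJ (D : Red.SplitRed G) : Mono (splitJ D) := by
  have := D.maximalTorus.2.1
  exact ⟨fun {X} a b h => by
    rw [splitJ, ← Category.assoc, ← Category.assoc] at h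
    have h1 := congrArg (· ≫ D.split.hom.hom.hom) ((cancel_mono D.i).1 h)
    simpa [Category.assoc, split_inv_hom'] using h1⟩

theorem isWt_root (D : Red.SplitRed G) (a : D.idx) : IsWt (splitJ D) (D.P.root a) (D.u a) := by
  obtain ⟨hmon, hcl, hconj⟩ := D.rootHom a
  have : Mono ((Over.forget S).map (D.u a)) := inferInstanceAs (Mono (D.u a).left)
  refine ⟨fun X => MonObj.one_comp (D.u a), (Over.forget S).mono_of_mono_map this, fun X t x => ?_⟩
  obtain ⟨y, hy1, hy2⟩ := hconj X (t ≫ D.split.inv.hom.hom) x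
  rw [splitJ, ← Category.assoc, ← hy1]
  congr 1
  apply gaFn_injective
  rw [gaFn_gaMk, hy2, Category.assoc, ← Category.assoc D.split.inv.hom.hom, split_inv_hom',
    Category.id_comp, gmFn_chi]
  rfl

end Groth.RedX

namespace Groth.RedX

open Groth.Agf

variable {k : Type u} [Field k] {G : Over (S₀ k)} [GrpObj G] {M : Type} [AddCommGroup M]

theorem IsWt.isWeightHom [IsAffine G.left] {j : Red.DS (S₀ k) M ⟶ G} {m : M} {u : Red.Ga (S₀ k) ⟶ G}
    (h : IsWt j m u) : IsWeightHom j m u := by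
  have := h.mono
  refine ⟨fun B _ _ => by rw [apt_zero, h.map_one], fun B _ _ r s e => apt_injective ((cancel_mono u).1 e),
    fun B _ _ χ r => ?_⟩
  rw [h.conj]
  congr 1
  apply Reductive.gaFn_injective
  rw [Reductive.gaFn_gaMk, gaFn_apt, gaFn_apt, map_mul]
  congr 1
  exact ptVal_tpt χ _

end Groth.RedX

end
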