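import Groth.Agent.RedX.Weights
import Groth.Agent.AlgGrp1.TangentOpen
import Groth.Agent.AlgGrp1.Geom

/-!
# Tangent decomposition of a group with a split torus and root subgroups
-/

set_option autoImplicit false
universe u

open CategoryTheory MonoidalCategory CartesianMonoidalCategory MonObj GrpObj AlgebraicGeometry
open scoped TensorProduct DualNumber

noncomputable section

namespace Groth.RedX

open Groth.Agf

variable {k : Type u} [Field k] {G : Over (S₀ k)} [GrpObj G] [IsAffine G.left]
  {M : Type} [AddCommGroup M] {J : Type} [Fintype J]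

/-- Tangent vector of a root subgroup. -/
abbrev rootTan (u : J → (Red.Ga (S₀ k) ⟶ G)) (a : J) : Fn G →ₗ[k] k := tan (apt DualNumber.eps ≫ u a)

/-- Root subgroups together with the torus exhaust all tangent vectors. -/
theorem exists_decomp [Infinite k] [Smooth G.hom] {j : Red.DS (S₀ k) M ⟶ G} [IsMonHom j] [Mono j]
    [Module.Finite ℤ M] [Module.Free ℤ M] {r : J → M} (hr : Function.Injective r) (hr0 : ∀ a, r a ≠ 0)
    {u : J → (Red.Ga (S₀ k) ⟶ G)} (hu : ∀ a, IsWeightHom j (r a) (u a))
    (hd : topologicalKrullDim G.left = ((Module.finrank ℤ M + Fintype.card J : ℕ) : WithBot ℕ∞))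
    {x : VecGrp.pt k k[ε] ⟶ G} (hx : IsTan x) :
    tan x ∈ LinearMap.range (torTan j) ⊔ Submodule.span k (Set.range (rootTan u)) ∧
      ((∀ χ : Multiplicative M →* kˣ, (conjC (tpt χ ≫ j)).toLinearMap.dualMap (tan x) = tan x) →
        tan x ∈ LinearMap.range (torTan j)) := by
  classical
  have hr' : ∀ a b, a ≠ b → r a - r b ≠ 0 := fun a b hab => sub_ne_zero.2 (hr.ne hab)
  obtain ⟨χ, hχ⟩ := exists_char (k := k)
    (Finset.univ.image r ∪ (Finset.univ ×ˢ Finset.univ).image fun p : J × J => r p.1 - r p.2)
  let ev : J → k := fun a => (χ (Multiplicative.ofAdd (r a)) : k)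
  have hev : Function.Injective ev := by
    intro a b h
    by_contra hab
    refine hχ _ (Finset.mem_union_right _ (Finset.mem_image.2 ⟨(a, b), by simp, rfl⟩)) (hr' a b hab) ?_
    rw [ofAdd_sub, map_div, div_eq_one]
    exact Units.ext h
  have hev1 : ∀ a, ev a ≠ 1 := fun a h =>
    hχ _ (Finset.mem_union_left _ (Finset.mem_image_of_mem _ (Finset.mem_univ a))) (hr0 a) (Units.ext h)
  let A : Module.End k (Fn G →ₗ[k] k) := (conjC (tpt χ ≫ j)).toLinearMap.dualMap
  let δ : J → (Fn G →ₗ[k] k) := rootTan u
  have htanR : ∀ a, IsTan (apt DualNumber.eps ≫ u a) := fun a => by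
    rw [IsTan, ptMap_comp_assoc (ptMap_apt _ _)]
    simpa using (hu a).map_zero k
  have hδ : ∀ a, A.HasEigenvector (ev a) (δ a) := fun a => by
    refine ⟨Module.End.mem_eigenspace_iff.2 (root_conj j (hu a) χ), fun h0 => ?_⟩
    have h1 : DualNumber.eps = (0 : k[ε]) :=
      (hu a).inj k[ε] (((htanR a).eq_one h0).trans ((hu a).map_zero k[ε]).symm)
    simpa using congrArg TrivSqZeroExt.snd h1
  let b := Module.Free.chooseBasis ℤ M
  let θ : (Module.Free.ChooseBasisIndex ℤ M → k) →ₗ[k] (M →+ k) :=
    { toFun := fun c => (b.constr ℤ c).toAddMonoidHom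
      map_add' := fun c d => by rw [map_add]; rfl
      map_smul' := fun c d => AddMonoidHom.ext fun x => by
        simp [Module.Basis.constr_apply_fintype, Finset.mul_sum, mul_left_comm] }
  have hθ : Function.Injective ((torTan j).comp θ) := by
    rw [injective_iff_map_eq_zero]
    intro c hc
    have h1 : tpt (expChar (θ c)) ≫ j = 1 := (isTan_tpt j (θ c)).eq_one ((torTan_eq j (θ c)).symm.trans hc)
    have h2 : tpt (k := k) (expChar (θ c)) = tpt (1 : Multiplicative M →* k[ε]ˣ) := by
      rw [← cancel_mono j, h1]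
      rw [tpt_one, MonObj.one_comp]
    have h4 := expChar_injective (tpt_injective h2)
    exact (b.constr ℤ).injective (LinearMap.toAddMonoidHom_injective (h4.trans (by ext; simp)))
  let τ := fun i => (torTan j).comp θ (Pi.basisFun k (Module.Free.ChooseBasisIndex ℤ M) i)
  have hτ : LinearIndependent k τ :=
    (Pi.basisFun k (Module.Free.ChooseBasisIndex ℤ M)).linearIndependent.map' _ (LinearMap.ker_eq_bot.2 hθ)
  have hT1 : LinearMap.range (torTan j) ≤ A.eigenspace 1 := by
    rintro _ ⟨v, rfl⟩
    exact Module.End.mem_eigenspace_iff.2 ((torTan_conj j χ v).trans (one_smul _ _).symm)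
  have hdisj : Disjoint (A.eigenspace 1) (Submodule.span k (Set.range δ)) := by
    refine Disjoint.mono_right ?_ (A.eigenspaces_iSupIndep 1)
    rw [Submodule.span_le]
    rintro _ ⟨a, rfl⟩
    exact Submodule.mem_iSup_of_mem (ev a) (Submodule.mem_iSup_of_mem (hev1 a) (hδ a).1)
  have hτT : Submodule.span k (Set.range τ) ≤ LinearMap.range (torTan j) := by
    rw [Submodule.span_le]
    rintro _ ⟨i, rfl⟩
    exact LinearMap.mem_range_self _ _
  have hli : LinearIndependent k (Sum.elim τ δ) :=
    hτ.sum_type (A.eigenvectors_linearIndependent' ev hev δ hδ) (hdisj.mono_left (hτT.trans hT1))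
  have hmem : Set.range (Sum.elim τ δ) ⊆ LinearMap.range (toCot G).dualMap := by
    rintro _ ⟨i | a, rfl⟩
    · show torTan j _ ∈ _
      rw [torTan_eq]
      exact (isTan_tpt j _).mem_range
    · exact (htanR a).mem_range
  have : Module.Finite k (augI G).Cotangent := finite_cotangent
  have hfin : FiniteDimensional k (LinearMap.range (toCot G).dualMap) := inferInstance
  have hspan : Submodule.span k (Set.range (Sum.elim τ δ)) = LinearMap.range (toCot G).dualMap := by
    refine Submodule.eq_of_le_of_finrank_le (Submodule.span_le.2 hmem) ?_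
    rw [finrank_span_eq_card hli, LinearMap.finrank_range_of_inj
      (LinearMap.dualMap_injective_of_surjective (toCot_surjective (G := G))), Subspace.dual_finrank_eq,
      Fintype.card_sum, ← Module.finrank_eq_card_chooseBasisIndex]
    exact finrank_cotangent_le hd
  have hx' : tan x ∈ LinearMap.range (torTan j) ⊔ Submodule.span k (Set.range δ) := by
    refine sup_le_sup_right hτT _ ?_
    rw [← Submodule.span_union, ← Set.Sum.elim_range, hspan]
    exact hx.mem_range
  refine ⟨hx', fun hfix => ?_⟩
  obtain ⟨t, ht, d, hd', e⟩ := Submodule.mem_sup.1 hx'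
  have h1 : tan x ∈ A.eigenspace 1 := Module.End.mem_eigenspace_iff.2 ((hfix χ).trans (one_smul _ _).symm)
  have h2 : d = 0 := (Submodule.disjoint_def.1 hdisj) d
    (by rw [eq_sub_of_add_eq' e]; exact sub_mem h1 (hT1 ht)) hd'
  rw [← e, h2, add_zero]
  exact ht

omit [GrpObj G] [IsAffine G.left] in
/-- A point on which the ideal of a closed subscheme vanishes factors through it. -/
theorem exists_lift_of_kills {Z : Over (S₀ k)} [IsAffine Z.left] [IsAffine G.left] (z : Z ⟶ G)
    [IsClosedImmersion z.left] {B : Type u} [CommRing B] [Algebra k B] (x : VecGrp.pt k B ⟶ G)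
    (h : ∀ f, pull z f = 0 → evalPt x f = 0) : ∃ y : VecGrp.pt k B ⟶ Z, y ≫ z = x := by
  have hsurj : Function.Surjective (pull z) := z.left.app_surjective ⊤ (isAffineOpen_top _)
  let φ : Fn Z →+* B := RingHom.liftOfSurjective (pull z : Fn G →+* Fn Z) hsurj
    ⟨(evalPt x : Fn G →+* B), fun f hf => RingHom.mem_ker.2 (h f (RingHom.mem_ker.1 hf))⟩
  have hφ : ∀ f, φ (pull z f) = evalPt x f := fun f => RingHom.liftOfRightInverse_comp_apply _ _ _ _ f
  have hc : ∀ c, φ (algebraMap k (Fn Z) c) = algebraMap k B c := fun c => by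
    rw [← (pull z).commutes c, hφ, AlgHom.commutes]
  let φ' : Fn Z →ₐ[k] B := { φ with commutes' := hc }
  refine ⟨ptOf Z φ', pt_ext (AlgHom.ext fun f => ?_)⟩
  rw [evalPt_comp_apply, evalPt_ptOf]
  exact hφ f

/-- A smooth closed subgroup containing all tangent vectors of a connected smooth group is the whole group. -/
theorem isIso_of_forall_tangent [IsAlgClosed k] [Smooth G.hom] [ConnectedSpace G.left] {Z : Over (S₀ k)}
    [GrpObj Z] (z : Z ⟶ G) [IsMonHom z] [IsClosedImmersion z.left] [Smooth Z.hom]
    (h : ∀ x : VecGrp.pt k k[ε] ⟶ G, IsTan x → ∃ y, y ≫ z = x) : IsIso z := by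
  have : IsAffine Z.left := isAffine_of_isAffineHom z.left
  have : Mono z := (Over.forget (S₀ k)).mono_of_mono_map (inferInstanceAs (Mono z.left))
  have := fn_finiteType G
  have hsm : Algebra.Smooth k (Fn Z) := by
    have h : Z.hom.appTop.hom.Smooth := (HasRingHomProperty.iff_of_isAffine (P := @Smooth)).1 ‹_›
    rw [← RingHom.smooth_algebraMap]
    exact RingHom.Smooth.respectsIso.2 Z.hom.appTop.hom
      (Scheme.ΓSpecIso (CommRingCat.of k)).commRingCatIsoToRingEquiv.symm h
  obtain ⟨U, hUo, hUne, hU⟩ := AlgGrp1.TangentOpen.exists_open_range (pull z)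
    (evalPt (1 : VecGrp.pt k k ⟶ Z)) fun P hP => by
      have hx : IsTan (ptOf G P) := by
        refine pt_ext (AlgHom.ext fun f => ?_)
        rw [evalPt_ptMap, evalPt_ptOf, ← MonObj.one_comp z, evalPt_comp_apply]
        exact hP f
      obtain ⟨y, hy⟩ := h _ hx
      have hy1 : VecGrp.ptMap (TrivSqZeroExt.fstHom k k k) ≫ y = 1 := by
        rw [← cancel_mono z, Category.assoc, hy, hx, MonObj.one_comp]
      refine ⟨evalPt y, fun f => ?_, ?_⟩
      · rw [← hy1, evalPt_ptMap]
        rfl
      · rw [← evalPt_comp, hy, evalPt_ptOf]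
  have hirr : IrreducibleSpace G.left := AlgGrp1.irreducibleSpace_of_connected G
  have hS : Surjective z.left := by
    let eG := G.left.isoSpec
    have hcl : IsClosed (Set.range z.left.base) := z.left.isClosedEmbedding.isClosed_range
    obtain ⟨q, hq⟩ := hUne
    let V : Set G.left := eG.hom.base ⁻¹' U
    have hVne : V.Nonempty := ⟨eG.inv.base q, by
      show eG.hom.base (eG.inv.base q) ∈ U
      rwa [← Scheme.Hom.comp_apply, Iso.inv_hom_id]⟩
    have hVsub : V ⊆ Set.range z.left.base := fun g hg => by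
      obtain ⟨w, hw⟩ := hU hg
      refine ⟨Z.left.isoSpec.inv.base w, ?_⟩
      apply eG.hom.homeomorph.injective
      show eG.hom.base (z.left.base (Z.left.isoSpec.inv.base w)) = eG.hom.base g
      rw [← Scheme.Hom.comp_apply, ← Scheme.Hom.comp_apply, ← Scheme.isoSpec_hom_naturality,
        Iso.inv_hom_id_assoc]
      exact hw
    refine ⟨fun g => hcl.closure_subset (closure_mono hVsub ?_)⟩
    rw [((hUo.preimage eG.hom.continuous).dense hVne).closure_eq]
    trivial
  have : IsReduced G.left := by
    have := AlgGrp1.isIntegral_of_smooth G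
    infer_instance
  have : IsIso z.left := isIso_of_isClosedImmersion_of_surjective z.left
  have : IsIso ((Over.forget (S₀ k)).map z) := ‹IsIso z.left›
  exact isIso_of_reflects_iso z (Over.forget (S₀ k))

end Groth.RedX

end
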