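import Groth.Agent.Agf.GMod
import Groth.Agent.Reductive.Points

/-!
# Points of split tori and of root subgroups with values in algebras over the base field
-/

set_option autoImplicit false
universe u

open CategoryTheory MonoidalCategory CartesianMonoidalCategory MonObj GrpObj AlgebraicGeometry
open scoped TensorProduct

noncomputable section

namespace Groth.RedX

open Groth.Agf

attribute [local instance] Groth.Reductive.algΓ'

variable {k : Type u} [Field k]

/-- The base scheme. -/
abbrev S₀ (k : Type u) [Field k] : Scheme.{u} := Spec (CommRingCat.of k)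

section ptVal

variable {S : Scheme.{u}}

theorem ptVal_comp {A : Type u} [CommRing A] [HopfAlgebra (ULift.{u} ℤ) A] {X Y : Over S} (g : Y ⟶ X)
    (x : X ⟶ Red.bc (Reductive.toZ S) (Reductive.affZ A)) (a : A) :
    Reductive.ptVal A (g ≫ x) a = g.left.appTop (Reductive.ptVal A x a) := by
  show (Reductive.ptFst A (g ≫ x)).appTop _ = g.left.appTop ((Reductive.ptFst A x).appTop _)
  simp only [Reductive.ptFst, Over.comp_left, Category.assoc, Scheme.Hom.comp_appTop]
  rfl

/-- The coordinate ring of a split torus over `ℤ`. -/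
abbrev TA (M : Type) [AddCommGroup M] : Type u := MonoidAlgebra (ULift.{u} ℤ) (Multiplicative M)

variable {M N : Type} [AddCommGroup M] [AddCommGroup N]

theorem ptVal_DSmap (φ : M →+ N) {X : Over S} (x : X ⟶ Red.DS S N) (m : Multiplicative M) :
    Reductive.ptVal (TA.{u} M) (x ≫ Red.DSmap S φ) (MonoidAlgebra.single m 1) =
      Reductive.ptVal (TA.{u} N) x (MonoidAlgebra.single (AddMonoidHom.toMultiplicative φ m) 1) := by
  let a : TA.{u} M := MonoidAlgebra.single m 1
  show (Reductive.ptFst (TA.{u} M) (x ≫ Red.DSmap S φ)).appTop ((Scheme.ΓSpecIso (CommRingCat.of (TA.{u} M))).inv a) = _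
  have h : Reductive.ptFst (TA.{u} M) (x ≫ Red.DSmap S φ) =
      Reductive.ptFst (TA.{u} N) x ≫ Spec.map (CommRingCat.ofHom
        (MonoidAlgebra.mapDomainAlgHom (ULift.{u} ℤ) (ULift.{u} ℤ) (AddMonoidHom.toMultiplicative φ)).toRingHom) := by
    simp only [Reductive.ptFst, Over.comp_left, Category.assoc]
    congr 1
    exact Limits.pullback.lift_fst _ _ _
  rw [h, Scheme.Hom.comp_appTop, CommRingCat.comp_apply]
  refine congrArg (Reductive.ptFst (TA.{u} N) x).appTop ?_
  refine (ConcreteCategory.congr_hom (Scheme.ΓSpecIso_inv_naturality (CommRingCat.ofHom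
    (MonoidAlgebra.mapDomainAlgHom (ULift.{u} ℤ) (ULift.{u} ℤ) (AddMonoidHom.toMultiplicative φ)).toRingHom)) a).symm.trans ?_
  rw [CommRingCat.comp_apply]
  refine congrArg (Scheme.ΓSpecIso _).inv ?_
  simp [a]

/-- The coordinate `m` of a point of the torus is the value of the character at the point. -/
theorem gmFn_chi {X : Over S} (x : X ⟶ Red.DS S M) (m : M) :
    Red.gmFn (x ≫ Red.chi S m) = Reductive.ptVal (TA.{u} M) x (MonoidAlgebra.single (Multiplicative.ofAdd m) 1) := by
  rw [Reductive.gmFn_eq]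
  show Reductive.ptVal (TA.{u} ℤ) (x ≫ Red.DSmap S (zmultiplesHom M m)) _ = _
  rw [ptVal_DSmap]
  simp

end ptVal

section tpt

variable {M N : Type} [AddCommGroup M] [AddCommGroup N] {B B' : Type u} [CommRing B] [Algebra k B]
  [CommRing B'] [Algebra k B']

/-- Functions on a test scheme. -/
def ptEquiv (k : Type u) [Field k] (B : Type u) [CommRing B] [Algebra k B] :
    Fn (VecGrp.pt k B) ≃ₐ[k] B :=
  AlgEquiv.ofBijective (ptFn B) ptFn_bijective

theorem ptEquiv_apply (a : Fn (VecGrp.pt k B)) : ptEquiv k B a = ptFn B a := rfl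

theorem ptFn_symm (b : B) : ptFn (k := k) B ((ptEquiv k B).symm b) = b :=
  (ptEquiv k B).apply_symm_apply b

theorem appTop_ptMap_symm (φ : B →ₐ[k] B') (b : B) :
    (VecGrp.ptMap φ).left.appTop ((ptEquiv k B).symm b) = (ptEquiv k B').symm (φ b) := by
  apply ptFn_bijective.1
  show ptFn B' (pull (VecGrp.ptMap φ) _) = _
  rw [ptFn_ptMap, ptFn_symm, ptFn_symm]

/-- The comorphism attached to a character with values in units. -/
def torVal (χ : Multiplicative M →* Bˣ) : TA.{u} M →ₐ[ULift.{u} ℤ] Fn (VecGrp.pt k B) :=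
  MonoidAlgebra.lift (ULift.{u} ℤ) _ (Multiplicative M)
    ((((ptEquiv k B).symm : B →* Fn (VecGrp.pt k B))).comp ((Units.coeHom B).comp χ))

theorem torVal_single (χ : Multiplicative M →* Bˣ) (m : Multiplicative M) :
    torVal (k := k) χ (MonoidAlgebra.single m 1) = (ptEquiv k B).symm (χ m : B) := by
  simp [torVal]

/-- The point of a split torus given by a character with values in units. -/
def tpt (χ : Multiplicative M →* Bˣ) : VecGrp.pt k B ⟶ Red.DS (S₀ k) M :=
  Reductive.ptMk _ (WithConv.toConv (torVal χ))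

theorem ptVal_tpt (χ : Multiplicative M →* Bˣ) (m : Multiplicative M) :
    Reductive.ptVal (TA.{u} M) (tpt (k := k) χ) (MonoidAlgebra.single m 1) = (ptEquiv k B).symm (χ m : B) := by
  refine Eq.trans ?_ (torVal_single χ m)
  exact AlgHom.congr_fun (Reductive.ptVal_ptMk (A := TA.{u} M) _ _) _

theorem tpt_eq_of {x : VecGrp.pt k B ⟶ Red.DS (S₀ k) M} {χ : Multiplicative M →* Bˣ}
    (h : ∀ m, Reductive.ptVal (TA.{u} M) x (MonoidAlgebra.single m 1) = (ptEquiv k B).symm (χ m : B)) :
    x = tpt χ := by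
  apply Reductive.ptVal_injective (A := TA.{u} M)
  apply MonoidAlgebra.algHom_ext'
  all_goals first
    | exact MonoidHom.ext fun m => (h m).trans (ptVal_tpt χ m).symm
    | exact AlgHom.coe_ringHom_injective (Reductive.ringHom_uliftInt_ext _ _)

theorem tpt_mul (χ χ' : Multiplicative M →* Bˣ) : tpt (k := k) (χ * χ') = tpt χ * tpt χ' := by
  refine (tpt_eq_of fun m => ?_).symm
  rw [Reductive.ptVal_mul, AlgHom.convMul_def]
  simp only [MonoidHom.mul_apply, Units.val_mul, map_mul]
  simp
  exact congrArg₂ (· * ·) (ptVal_tpt χ m) (ptVal_tpt χ' m)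

theorem tpt_one : tpt (k := k) (1 : Multiplicative M →* Bˣ) = 1 := by
  have h := tpt_mul (k := k) (1 : Multiplicative M →* Bˣ) 1
  have e : (1 : Multiplicative M →* Bˣ) * 1 = 1 := MonoidHom.ext fun m => by simp
  have h' := congrArg (fun z => (tpt (k := k) (1 : Multiplicative M →* Bˣ))⁻¹ * z) ((congrArg tpt e).symm.trans h)
  simp only [inv_mul_cancel, inv_mul_cancel_left] at h'
  exact h'.symm

theorem tpt_comm (χ χ' : Multiplicative M →* Bˣ) : tpt (k := k) χ * tpt χ' = tpt χ' * tpt χ := by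
  rw [← tpt_mul, ← tpt_mul]
  exact congrArg tpt (MonoidHom.ext fun m => Units.ext (mul_comm _ _))

theorem tpt_conj (χ χ' : Multiplicative M →* Bˣ) :
    tpt (k := k) χ * tpt (k := k) χ' * (tpt (k := k) χ)⁻¹ = tpt χ' := by
  rw [tpt_comm χ χ']
  exact mul_inv_cancel_right (tpt χ') (tpt χ)

theorem tpt_injective : Function.Injective (tpt (k := k) (B := B) (M := M)) := fun χ χ' h => by
  refine MonoidHom.ext fun m => Units.ext ((ptEquiv k B).symm.injective ?_)
  rw [← ptVal_tpt χ m, h, ptVal_tpt]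

theorem ptMap_tpt (φ : B →ₐ[k] B') (χ : Multiplicative M →* Bˣ) :
    VecGrp.ptMap φ ≫ tpt (k := k) χ = tpt ((Units.map (φ : B →* B')).comp χ) := by
  refine tpt_eq_of fun m => ?_
  rw [ptVal_comp, ptVal_tpt, appTop_ptMap_symm]
  rfl

theorem tpt_DSmap (φ : M →+ N) (χ : Multiplicative N →* Bˣ) :
    tpt (k := k) χ ≫ Red.DSmap (S₀ k) φ = tpt (χ.comp (AddMonoidHom.toMultiplicative φ)) := by
  refine tpt_eq_of fun m => ?_
  rw [ptVal_DSmap, ptVal_tpt]
  rfl

theorem exists_tpt (x : VecGrp.pt k B ⟶ Red.DS (S₀ k) M) : ∃ χ : Multiplicative M →* Bˣ, tpt χ = x := by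
  let f : Multiplicative M →* B :=
    ((ptEquiv k B : Fn (VecGrp.pt k B) →* B)).comp
      ((Reductive.ptVal (TA.{u} M) x : TA.{u} M →* Fn (VecGrp.pt k B)).comp
        (MonoidAlgebra.of (ULift.{u} ℤ) (Multiplicative M)))
  refine ⟨f.toHomUnits, (tpt_eq_of fun m => ?_).symm⟩
  simp [f]

theorem gmFn_tpt_chi (χ : Multiplicative M →* Bˣ) (m : M) :
    Red.gmFn (tpt (k := k) χ ≫ Red.chi (S₀ k) m) = (ptEquiv k B).symm (χ (Multiplicative.ofAdd m) : B) := by
  rw [gmFn_chi, ptVal_tpt]

/-- The point of `𝔾_a` with given coordinate. -/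
def apt (r : B) : VecGrp.pt k B ⟶ Red.Ga (S₀ k) :=
  Reductive.gaMk _ ((ptEquiv k B).symm r)

theorem gaFn_apt (r : B) : Red.gaFn (apt (k := k) r) = (ptEquiv k B).symm r := Reductive.gaFn_gaMk _

theorem apt_injective : Function.Injective (apt (k := k) (B := B)) := fun r s h =>
  (ptEquiv k B).symm.injective (by rw [← gaFn_apt, h, gaFn_apt])

theorem apt_zero : apt (k := k) (0 : B) = 1 :=
  Reductive.gaFn_injective (by rw [gaFn_apt, Reductive.gaFn_one, map_zero])

theorem ptMap_apt (φ : B →ₐ[k] B') (r : B) : VecGrp.ptMap φ ≫ apt (k := k) r = apt (φ r) := by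
  refine Reductive.gaFn_injective ?_
  rw [Reductive.gaFn_comp, gaFn_apt, gaFn_apt, appTop_ptMap_symm]

end tpt

end Groth.RedX

end
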