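import Groth.Agent.RedX.Torus
import Groth.Agent.Calg4.SmoothRegularField
import Groth.Agent.PropsBasic.HopfDim
import Mathlib.LinearAlgebra.Eigenspace.Basic
import Mathlib.Topology.KrullDimension
import Mathlib.RingTheory.Spectrum.Prime.Topology

/-!
# Tangent vectors of root homomorphisms have distinct weights
-/

set_option autoImplicit false
universe u

open CategoryTheory MonoidalCategory CartesianMonoidalCategory MonObj GrpObj AlgebraicGeometry
open scoped TensorProduct DualNumber

noncomputable section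

namespace Groth.RedX

open Groth.Agf

variable {k : Type u} [Field k] {G : Over (S₀ k)} [GrpObj G] [IsAffine G.left]
  {B B' : Type u} [CommRing B] [Algebra k B] [CommRing B'] [Algebra k B']

omit [GrpObj G] [IsAffine G.left] in
theorem ptMap_comp_assoc {φ : B →ₐ[k] B'} {X : Over (S₀ k)} {x : VecGrp.pt k B ⟶ X}
    {y : VecGrp.pt k B' ⟶ X} (h : VecGrp.ptMap φ ≫ x = y) (f : X ⟶ G) :
    VecGrp.ptMap φ ≫ x ≫ f = y ≫ f := by
  rw [← Category.assoc, h]

omit [GrpObj G] [IsAffine G.left] in
theorem ptMap_cst (φ : B →ₐ[k] B') (g : VecGrp.pt k k ⟶ G) :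
    VecGrp.ptMap φ ≫ cst (B := B) g = cst g := by
  rw [cst, cst, ← Category.assoc]
  congr 1
  exact constPt_unique _

/-- Pull back of functions along conjugation by a rational point. -/
def conjC (g : VecGrp.pt k k ⟶ G) : Fn G →ₐ[k] Fn G :=
  evalPt (cst g * univ G * (cst g)⁻¹)

theorem evalPt_conjC (g : VecGrp.pt k k ⟶ G) (x : VecGrp.pt k B ⟶ G) :
    (evalPt x).comp (conjC g) = evalPt (cst g * x * (cst g)⁻¹) := by
  rw [conjC, ← evalPt_ptMap]
  congr 1
  simp only [MonObj.comp_mul, GrpObj.comp_inv, ptMap_cst, ptMap_univ]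

/-- The functional of a dual number valued point. -/
def tan (x : VecGrp.pt k k[ε] ⟶ G) : Fn G →ₗ[k] k :=
  (TrivSqZeroExt.sndHom k k).comp (evalPt x).toLinearMap

omit [GrpObj G] [IsAffine G.left] in
theorem tan_apply (x : VecGrp.pt k k[ε] ⟶ G) (f : Fn G) : tan x f = (evalPt x f).snd := rfl

theorem tan_conj (g : VecGrp.pt k k ⟶ G) (x : VecGrp.pt k k[ε] ⟶ G) (f : Fn G) :
    tan x (conjC g f) = tan (cst g * x * (cst g)⁻¹) f := by
  rw [tan_apply, tan_apply, ← evalPt_conjC]
  rfl

/-- Rescaling of the dual coordinate. -/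
def scaleA (c : k) : k[ε] →ₐ[k] k[ε] := TrivSqZeroExt.map (c • LinearMap.id)

theorem scaleA_eps (c : k) : scaleA c DualNumber.eps = c • (DualNumber.eps : k[ε]) := by
  rw [scaleA, DualNumber.eps, TrivSqZeroExt.map_inr]
  ext <;> simp

omit [GrpObj G] [IsAffine G.left] in
theorem tan_scale (c : k) (x : VecGrp.pt k k[ε] ⟶ G) :
    tan (VecGrp.ptMap (scaleA c) ≫ x) = c • tan x := by
  refine LinearMap.ext fun f => ?_
  rw [tan_apply, evalPt_ptMap, AlgHom.comp_apply, scaleA, TrivSqZeroExt.snd_map]
  rfl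

/-- Infinitesimal points. -/
def IsTan (x : VecGrp.pt k k[ε] ⟶ G) : Prop :=
  VecGrp.ptMap (TrivSqZeroExt.fstHom k k k) ≫ x = 1

omit [IsAffine G.left] in
theorem IsTan.fst {x : VecGrp.pt k k[ε] ⟶ G} (hx : IsTan x) (f : Fn G) :
    (evalPt x f).fst = evalPt (1 : VecGrp.pt k k ⟶ G) f := by
  rw [← hx, evalPt_ptMap]
  rfl

theorem IsTan.eq_one {x : VecGrp.pt k k[ε] ⟶ G} (hx : IsTan x) (h : tan x = 0) : x = 1 := by
  refine pt_ext (AlgHom.ext fun f => TrivSqZeroExt.ext ?_ ?_)
  · rw [hx.fst, ← MonObj.comp_one (VecGrp.ptMap (Algebra.ofId k k[ε])), evalPt_ptMap]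
    rfl
  · rw [← MonObj.comp_one (VecGrp.ptMap (Algebra.ofId k k[ε])), evalPt_ptMap]
    rw [← tan_apply x f, h]
    simp [Algebra.ofId_apply, TrivSqZeroExt.algebraMap_eq_inl']

variable (G) in
/-- The augmentation. -/
abbrev augI : Ideal (Fn G) := RingHom.ker (evalPt (1 : VecGrp.pt k k ⟶ G))

variable (G) in
/-- Projection to the augmentation ideal. -/
def augProj : Fn G →ₗ[k] augI G where
  toFun f := ⟨f - algebraMap k _ (evalPt (1 : VecGrp.pt k k ⟶ G) f), by simp [RingHom.mem_ker]⟩
  map_add' a b := Subtype.ext (by simp [map_add, sub_add_sub_comm])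
  map_smul' c a := Subtype.ext (by
    simp only [RingHom.id_apply, Submodule.coe_smul_of_tower, Algebra.smul_def, map_mul, AlgHom.commutes,
      mul_sub]
    rfl)

variable (G) in
/-- Projection to the cotangent space at the unit. -/
def toCot : Fn G →ₗ[k] (augI G).Cotangent :=
  ((augI G).toCotangent.restrictScalars k).comp (augProj G)

omit [IsAffine G.left] in
theorem toCot_apply (f : Fn G) : toCot G f = (augI G).toCotangent (augProj G f) := rfl

omit [IsAffine G.left] in
theorem toCot_surjective : Function.Surjective (toCot G) := fun z => by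
  obtain ⟨⟨f, hf⟩, rfl⟩ := (augI G).toCotangent_surjective z
  refine ⟨f, ?_⟩
  rw [toCot_apply]
  refine congrArg (augI G).toCotangent (Subtype.ext ?_)
  simp [augProj, RingHom.mem_ker.1 hf]

omit [IsAffine G.left] in
theorem IsTan.mem_range {x : VecGrp.pt k k[ε] ⟶ G} (hx : IsTan x) :
    tan x ∈ LinearMap.range (toCot G).dualMap := by
  rw [LinearMap.range_dualMap_eq_dualAnnihilator_ker, Submodule.mem_dualAnnihilator]
  intro f hf
  have h : f - algebraMap k _ (evalPt (1 : VecGrp.pt k k ⟶ G) f) ∈ augI G ^ 2 :=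
    (Ideal.toCotangent_eq_zero (augI G) (augProj G f)).1 ((toCot_apply f).symm.trans hf)
  have h0 : evalPt x (f - algebraMap k _ (evalPt (1 : VecGrp.pt k k ⟶ G) f)) = 0 := by
    have hle : augI G ^ 2 ≤ RingHom.ker (evalPt x) := by
      rw [pow_two, Ideal.mul_le]
      intro a ha b hb
      rw [RingHom.mem_ker, map_mul]
      refine TrivSqZeroExt.ext ?_ ?_ <;>
        simp [hx.fst, RingHom.mem_ker.1 ha, RingHom.mem_ker.1 hb]
    exact hle h
  have h1 := congrArg TrivSqZeroExt.snd h0
  simpa [tan_apply, TrivSqZeroExt.algebraMap_eq_inl'] using h1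

theorem finite_cotangent [LocallyOfFiniteType G.hom] : Module.Finite k (augI G).Cotangent := by
  have := fn_isNoetherianRing G
  obtain ⟨s, hs⟩ := (IsNoetherian.noetherian (augI G) : (augI G).FG)
  refine Module.Finite.of_fg_top (Submodule.fg_def.2 ⟨(augI G).toCotangent '' {z | (z : Fn G) ∈ s}, ?_, ?_⟩)
  · exact (s.finite_toSet.preimage Subtype.val_injective.injOn).image _
  · refine eq_top_iff.2 fun z _ => ?_
    obtain ⟨⟨f, hf⟩, rfl⟩ := (augI G).toCotangent_surjective z
    have hf' : f ∈ Submodule.span (Fn G) (s : Set (Fn G)) := hs.symm ▸ hf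
    obtain ⟨c, -, rfl⟩ := (Submodule.mem_span_finset).1 hf'
    have hmem : ∀ a : {a // a ∈ s}, (a : Fn G) ∈ augI G := fun a => hs ▸ Ideal.subset_span a.2
    have e : (⟨∑ a ∈ s, c a • a, hf⟩ : augI G) = ∑ a : {a // a ∈ s}, c a.1 • (⟨a.1, hmem a⟩ : augI G) := by
      apply Subtype.ext
      simp only [Submodule.coe_sum, Submodule.coe_smul]
      exact (Finset.sum_coe_sort s fun a => c a • a).symm
    rw [e, map_sum]
    refine Submodule.sum_mem _ fun a _ => ?_
    have e2 : (augI G).toCotangent (c a.1 • ⟨a.1, hmem a⟩) =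
        evalPt (1 : VecGrp.pt k k ⟶ G) (c a.1) • (augI G).toCotangent ⟨a.1, hmem a⟩ := by
      rw [← LinearMap.map_smul_of_tower, ← sub_eq_zero, ← map_sub, Ideal.toCotangent_eq_zero]
      simp only [Submodule.coe_sub, Submodule.coe_smul, Submodule.coe_smul_of_tower, smul_eq_mul,
        Algebra.smul_def, ← sub_mul, pow_two]
      exact Ideal.mul_mem_mul (by simp [RingHom.mem_ker]) (hmem a)
    rw [e2]
    exact Submodule.smul_mem _ _ (Submodule.subset_span ⟨_, a.2, rfl⟩)

/-- For a smooth group the cotangent space at the unit has at most the dimension of the group. -/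
theorem finrank_cotangent_le [Smooth G.hom] {d : ℕ}
    (hd : topologicalKrullDim G.left = (d : WithBot ℕ∞)) : Module.finrank k (augI G).Cotangent ≤ d := by
  have := fn_finiteType G
  have hsm : Algebra.Smooth k (Fn G) := by
    have h : G.hom.appTop.hom.Smooth := (HasRingHomProperty.iff_of_isAffine (P := @Smooth)).1 ‹_›
    rw [← RingHom.smooth_algebraMap]
    exact RingHom.Smooth.respectsIso.2 G.hom.appTop.hom
      (Scheme.ΓSpecIso (CommRingCat.of k)).commRingCatIsoToRingEquiv.symm h
  have hsurj : Function.Surjective (evalPt (1 : VecGrp.pt k k ⟶ G)) :=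
    fun c => ⟨algebraMap k _ c, AlgHom.commutes _ c⟩
  have hmax : (augI G).IsMaximal := RingHom.ker_isMaximal_of_surjective _ hsurj
  have : Algebra.IsSmoothAt k (augI G) :=
    haveI := hsm.formallySmooth
    Algebra.FormallySmooth.comp k (Fn G) (Localization.AtPrime (augI G))
  have hreg := Calg4.isRegularLocalRing_of_isSmoothAt (k := k) (augI G)
  rw [← HopfDim.finrank_cotangentSpace]
  have h1 := (IsRegularLocalRing.iff_finrank_cotangentSpace _).1 hreg
  have h2 : ringKrullDim (Localization.AtPrime (augI G)) ≤ (d : WithBot ℕ∞) := by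
    rw [IsLocalization.AtPrime.ringKrullDim_eq_height (augI G), ← hd,
      IsHomeomorph.topologicalKrullDim_eq (f := G.left.isoSpec.hom.base) ⟨G.left.isoSpec.hom.continuous,
        G.left.isoSpec.hom.isOpenEmbedding.isOpenMap, G.left.isoSpec.hom.homeomorph.bijective⟩]
    refine le_trans ?_ (le_of_eq (PrimeSpectrum.topologicalKrullDim_eq_ringKrullDim Γ(G.left, ⊤)).symm)
    exact Ideal.height_le_ringKrullDim_of_ne_top hmax.ne_top
  rw [← h1] at h2
  exact_mod_cast h2

theorem exists_zpow_ne [Infinite k] (F : Finset ℤ) : ∃ t : kˣ, ∀ n ∈ F, n ≠ 0 → ((t ^ n : kˣ) : k) ≠ 1 := by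
  let P : Polynomial k := Polynomial.X * ∏ n ∈ F.filter (· ≠ 0), (Polynomial.X ^ n.natAbs - 1)
  have hP : P ≠ 0 := mul_ne_zero Polynomial.X_ne_zero (Finset.prod_ne_zero_iff.2 fun n hn =>
    by
      have h := (Polynomial.monic_X_pow_sub_C (1 : k) (Int.natAbs_ne_zero.2 (Finset.mem_filter.1 hn).2)).ne_zero
      simpa using h)
  obtain ⟨a, ha⟩ : ∃ a, P.eval a ≠ 0 := by
    by_contra h
    exact hP (Polynomial.funext fun a => by simpa using not_not.1 fun hh => h ⟨a, hh⟩)
  rw [Polynomial.eval_mul, Polynomial.eval_X, Polynomial.eval_prod] at ha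
  refine ⟨Units.mk0 a (left_ne_zero_of_mul ha), fun n hn h0 h1 => ?_⟩
  refine Finset.prod_ne_zero_iff.1 (right_ne_zero_of_mul ha) n (Finset.mem_filter.2 ⟨hn, h0⟩) ?_
  have h2 : (Units.mk0 a (left_ne_zero_of_mul ha)) ^ n = 1 := Units.ext h1
  have h3 : (Units.mk0 a (left_ne_zero_of_mul ha)) ^ n.natAbs = 1 := by
    rcases Int.natAbs_eq n with h | h <;> rw [h] at h2 <;> simpa using h2
  simpa [sub_eq_zero] using congrArg (fun v : kˣ => (v : k)) h3

/-- There is a character of the points separating finitely many elements of a free group from zero. -/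
theorem exists_char [Infinite k] {M : Type} [AddCommGroup M] [Module.Finite ℤ M] [Module.Free ℤ M] (F : Finset M) :
    ∃ χ : Multiplicative M →* kˣ, ∀ m ∈ F, m ≠ 0 → χ (Multiplicative.ofAdd m) ≠ 1 := by
  classical
  let b := Module.Free.chooseBasis ℤ M
  let e := Fintype.equivFin (Module.Free.ChooseBasisIndex ℤ M)
  let q : M → Polynomial ℤ := fun m => ∑ i, Polynomial.monomial (e i : ℕ) (b.repr m i)
  have hq : ∀ m, m ≠ 0 → q m ≠ 0 := fun m hm h => hm (b.repr.injective (Finsupp.ext fun i => by
    have := congrArg (fun p => Polynomial.coeff p (e i)) h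
    simpa [q, Polynomial.finsetSum_coeff, Polynomial.coeff_monomial, Fin.val_inj] using this))
  obtain ⟨s, hs⟩ : ∃ s : ℤ, (∏ m ∈ F.filter (· ≠ 0), q m).eval s ≠ 0 := by
    by_contra h
    refine (Finset.prod_ne_zero_iff (s := F.filter (· ≠ 0)) (f := q)).2
      (fun m hm => hq m (Finset.mem_filter.1 hm).2) (Polynomial.funext fun a => ?_)
    simpa using not_not.1 fun hh => h ⟨a, hh⟩
  let l : M →+ ℤ :=
    { toFun := fun m => (q m).eval s
      map_zero' := by simp [q]
      map_add' := fun a b => by simp [q, Polynomial.eval_finsetSum, Finset.sum_add_distrib] }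
  obtain ⟨t, ht⟩ := exists_zpow_ne (k := k) (F.image l)
  refine ⟨(zpowersHom kˣ t).comp (AddMonoidHom.toMultiplicative l), fun m hm h0 h1 => ?_⟩
  rw [Polynomial.eval_prod] at hs
  exact ht (l m) (Finset.mem_image_of_mem _ hm)
    (Finset.prod_ne_zero_iff.1 hs m (Finset.mem_filter.2 ⟨hm, h0⟩))
    (congrArg (fun v : kˣ => (v : k)) h1)

variable {M : Type} [AddCommGroup M]

/-- A closed additive one-parameter subgroup normalised by the torus with character `m`. -/
structure IsWeightHom (j : Red.DS (S₀ k) M ⟶ G) (m : M) (u : Red.Ga (S₀ k) ⟶ G) : Prop where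
  map_zero : ∀ (B : Type u) [CommRing B] [Algebra k B], apt (k := k) (0 : B) ≫ u = 1
  inj : ∀ (B : Type u) [CommRing B] [Algebra k B], Function.Injective fun r : B => apt (k := k) r ≫ u
  conj : ∀ (B : Type u) [CommRing B] [Algebra k B] (χ : Multiplicative M →* Bˣ) (r : B),
    (tpt χ ≫ j) * (apt r ≫ u) * (tpt χ ≫ j)⁻¹ = apt ((χ (Multiplicative.ofAdd m) : B) * r) ≫ u

/-- The infinitesimal character. -/
def expChar (v : M →+ k) : Multiplicative M →* k[ε]ˣ :=
  MonoidHom.toHomUnits
    { toFun := fun m => 1 + TrivSqZeroExt.inr (v m.toAdd)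
      map_one' := by simp
      map_mul' := fun a b => by refine TrivSqZeroExt.ext ?_ ?_ <;> simp [add_comm] }

theorem expChar_val (v : M →+ k) (m : Multiplicative M) :
    (expChar v m : k[ε]) = 1 + TrivSqZeroExt.inr (v m.toAdd) := rfl

theorem expChar_injective {v : M →+ k} (h : expChar v = 1) : v = 0 := AddMonoidHom.ext fun m => by
  have := congrArg (fun χ : Multiplicative M →* k[ε]ˣ => (χ (Multiplicative.ofAdd m) : k[ε]).snd) h
  simpa [expChar_val] using this

/-- The universal point of the torus. -/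
def torUniv (k : Type u) [Field k] (M : Type) [AddCommGroup M] :
    VecGrp.pt k (MonoidAlgebra k (Multiplicative M)) ⟶ Red.DS (S₀ k) M :=
  tpt (MonoidAlgebra.of k (Multiplicative M)).toHomUnits

theorem ptMap_torUniv (χ : Multiplicative M →* Bˣ) :
    VecGrp.ptMap (MonoidAlgebra.lift k B (Multiplicative M) ((Units.coeHom B).comp χ)) ≫ torUniv k M =
      tpt χ := by
  rw [torUniv, ptMap_tpt]
  congr 1
  refine MonoidHom.ext fun m => Units.ext ?_
  simp

section torTan

variable (j : Red.DS (S₀ k) M ⟶ G)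

/-- Tangent vectors of the torus, linearly. -/
def torTan : (M →+ k) →ₗ[k] (Fn G →ₗ[k] k) where
  toFun v := ((Finsupp.linearCombination k fun m : Multiplicative M => v m.toAdd).comp
    (MonoidAlgebra.coeffLinearEquiv k).toLinearMap).comp (evalPt (torUniv k M ≫ j)).toLinearMap
  map_add' v w := LinearMap.ext fun f => by
    simp [Finsupp.linearCombination_apply, Finsupp.sum, Finset.sum_add_distrib, mul_add]
  map_smul' c v := LinearMap.ext fun f => by
    simp [Finsupp.linearCombination_apply, Finsupp.sum, Finset.mul_sum, mul_left_comm]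

omit [GrpObj G] [IsAffine G.left] in
theorem torTan_eq (v : M →+ k) : torTan j v = tan (tpt (expChar v) ≫ j) := by
  refine LinearMap.ext fun f => ?_
  rw [tan_apply, ← ptMap_torUniv, Category.assoc, evalPt_ptMap, AlgHom.comp_apply]
  show (Finsupp.linearCombination k fun m : Multiplicative M => v m.toAdd)
    (MonoidAlgebra.coeffLinearEquiv k (evalPt (torUniv k M ≫ j) f)) = _
  induction evalPt (torUniv k M ≫ j) f using MonoidAlgebra.induction_linear with
  | zero => simp
  | add p q hp hq => simp only [map_add, hp, hq, TrivSqZeroExt.snd_add]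
  | single m c => simp [expChar_val, MonoidAlgebra.lift_single]

omit [IsAffine G.left] in
theorem isTan_tpt [IsMonHom j] (v : M →+ k) : IsTan (tpt (expChar v) ≫ j) := by
  rw [IsTan, ptMap_comp_assoc (ptMap_tpt _ _)]
  have : (Units.map (TrivSqZeroExt.fstHom k k k : k[ε] →* k)).comp (expChar v) = 1 :=
    MonoidHom.ext fun m => Units.ext (by simp [expChar_val])
  rw [this]
  have h1 : tpt (k := k) (1 : Multiplicative M →* kˣ) = 1 := by
    exact tpt_one
  rw [h1, MonObj.one_comp]

omit [GrpObj G] [IsAffine G.left] in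
theorem cst_tpt (χ : Multiplicative M →* kˣ) :
    cst (B := B) (tpt χ ≫ j) = tpt ((Units.map (Algebra.ofId k B : k →* B)).comp χ) ≫ j := by
  rw [cst, ptMap_comp_assoc (ptMap_tpt _ _)]

theorem torTan_conj [IsMonHom j] (χ : Multiplicative M →* kˣ) (v : M →+ k) :
    (conjC (tpt χ ≫ j)).toLinearMap.dualMap (torTan j v) = torTan j v := by
  refine LinearMap.ext fun f => ?_
  rw [torTan_eq]
  show tan _ (conjC _ f) = _
  rw [tan_conj, cst_tpt]
  congr 2
  rw [← GrpObj.inv_comp _ j, ← MonObj.mul_comp _ _ j, ← MonObj.mul_comp _ _ j, tpt_conj]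


theorem root_conj {m : M} {u : Red.Ga (S₀ k) ⟶ G} (hu : IsWeightHom j m u) (χ : Multiplicative M →* kˣ) :
    (conjC (tpt χ ≫ j)).toLinearMap.dualMap (tan (apt DualNumber.eps ≫ u)) =
      (χ (Multiplicative.ofAdd m) : k) • tan (apt DualNumber.eps ≫ u) := by
  refine LinearMap.ext fun f => ?_
  show tan _ (conjC _ f) = _
  rw [tan_conj, cst_tpt, hu.conj, ← tan_scale, ptMap_comp_assoc (ptMap_apt _ _), scaleA_eps]
  congr 2
  simp [Algebra.smul_def, Algebra.ofId_apply]

/-- The weights of additive subgroups normalised by a maximal number of roots exhaust all weights. -/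
theorem exists_root_eq [Infinite k] [Smooth G.hom] [IsMonHom j] [Mono j] [Module.Finite ℤ M]
    [Module.Free ℤ M] {J : Type} [Fintype J] (r : J → M) (hr : Function.Injective r) (hr0 : ∀ a, r a ≠ 0)
    (u : J → (Red.Ga (S₀ k) ⟶ G)) (hu : ∀ a, IsWeightHom j (r a) (u a))
    (hd : topologicalKrullDim G.left = ((Module.finrank ℤ M + Fintype.card J : ℕ) : WithBot ℕ∞))
    {m : M} (hm0 : m ≠ 0) {w : Red.Ga (S₀ k) ⟶ G} (hw : IsWeightHom j m w) : ∃ a, r a = m := by
  classical
  by_contra hne
  push Not at hne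
  let r' : Option J → M := fun a => a.elim m r
  let u' : Option J → (Red.Ga (S₀ k) ⟶ G) := fun a => a.elim w u
  have hu' : ∀ a, IsWeightHom j (r' a) (u' a) := Option.rec hw hu
  have hr' : ∀ a b, a ≠ b → r' a - r' b ≠ 0 := by
    rintro (_ | a) (_ | b) hab <;> rw [sub_ne_zero]
    · exact absurd rfl hab
    · exact (hne b).symm
    · exact hne a
    · exact hr.ne fun h => hab (congrArg some h)
  have hr0' : ∀ a, r' a ≠ 0 := Option.rec hm0 hr0
  obtain ⟨χ, hχ⟩ := exists_char (k := k)
    (Finset.univ.image r' ∪ (Finset.univ ×ˢ Finset.univ).image fun p : Option J × Option J => r' p.1 - r' p.2)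
  let ev : Option J → k := fun a => (χ (Multiplicative.ofAdd (r' a)) : k)
  have hev : Function.Injective ev := by
    intro a b h
    by_contra hab
    refine hχ _ (Finset.mem_union_right _ (Finset.mem_image.2 ⟨(a, b), by simp, rfl⟩)) (hr' a b hab) ?_
    rw [ofAdd_sub, map_div, div_eq_one]
    exact Units.ext h
  have hev1 : ∀ a, ev a ≠ 1 := fun a h =>
    hχ _ (Finset.mem_union_left _ (Finset.mem_image_of_mem _ (Finset.mem_univ a))) (hr0' a) (Units.ext h)
  let A : Module.End k (Fn G →ₗ[k] k) := (conjC (tpt χ ≫ j)).toLinearMap.dualMap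
  let δ : Option J → (Fn G →ₗ[k] k) := fun a => tan (apt DualNumber.eps ≫ u' a)
  have htanR : ∀ a, IsTan (apt DualNumber.eps ≫ u' a) := fun a => by
    rw [IsTan, ptMap_comp_assoc (ptMap_apt _ _)]
    simpa using (hu' a).map_zero k
  have hδ : ∀ a, A.HasEigenvector (ev a) (δ a) := fun a => by
    refine ⟨Module.End.mem_eigenspace_iff.2 (root_conj j (hu' a) χ), fun h0 => ?_⟩
    have h1 : DualNumber.eps = (0 : k[ε]) :=
      (hu' a).inj k[ε] (((htanR a).eq_one h0).trans ((hu' a).map_zero k[ε]).symm)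
    simpa using congrArg TrivSqZeroExt.snd h1
  let b := Module.Free.chooseBasis ℤ M
  let θ : (Module.Free.ChooseBasisIndex ℤ M → k) →ₗ[k] (M →+ k) :=
    { toFun := fun c => (b.constr ℤ c).toAddMonoidHom
      map_add' := fun c d => by rw [map_add]; rfl
      map_smul' := fun c d => AddMonoidHom.ext fun x => by
        simp [Module.Basis.constr_apply_fintype, Finset.mul_sum, mul_left_comm] }
  have hθ : Function.Injective ((torTan j).comp θ) := by
    rw [injective_iff_map_eq_zero]
    intro c hc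
    have h1 : tpt (expChar (θ c)) ≫ j = 1 := (isTan_tpt j (θ c)).eq_one ((torTan_eq j (θ c)).symm.trans hc)
    have h2 : tpt (k := k) (expChar (θ c)) = tpt (1 : Multiplicative M →* k[ε]ˣ) := by
      rw [← cancel_mono j, h1]
      rw [tpt_one, MonObj.one_comp]
    have h4 := expChar_injective (tpt_injective h2)
    exact (b.constr ℤ).injective (LinearMap.toAddMonoidHom_injective (h4.trans (by ext; simp)))
  let τ := fun i => (torTan j).comp θ (Pi.basisFun k (Module.Free.ChooseBasisIndex ℤ M) i)
  have hτ : LinearIndependent k τ :=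
    (Pi.basisFun k (Module.Free.ChooseBasisIndex ℤ M)).linearIndependent.map' _ (LinearMap.ker_eq_bot.2 hθ)
  have hli : LinearIndependent k (Sum.elim τ δ) := by
    refine hτ.sum_type (A.eigenvectors_linearIndependent' ev hev δ hδ) ?_
    refine Disjoint.mono ?_ ?_ (A.eigenspaces_iSupIndep 1)
    · rw [Submodule.span_le]
      rintro _ ⟨i, rfl⟩
      exact Module.End.mem_eigenspace_iff.2 ((torTan_conj j χ _).trans (one_smul _ _).symm)
    · rw [Submodule.span_le]
      rintro _ ⟨a, rfl⟩
      exact Submodule.mem_iSup_of_mem (ev a) (Submodule.mem_iSup_of_mem (hev1 a) (hδ a).1)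
  have hmem : Set.range (Sum.elim τ δ) ⊆ LinearMap.range (toCot G).dualMap := by
    rintro _ ⟨i | a, rfl⟩
    · show torTan j _ ∈ _
      rw [torTan_eq]
      exact (isTan_tpt j _).mem_range
    · exact (htanR a).mem_range
  have : Module.Finite k (augI G).Cotangent := finite_cotangent
  have hle : Fintype.card (Module.Free.ChooseBasisIndex ℤ M ⊕ Option J) ≤
      Module.finrank k (augI G).Cotangent := by
    rw [← finrank_span_eq_card hli, ← Subspace.dual_finrank_eq (K := k) (V := (augI G).Cotangent),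
      ← LinearMap.finrank_range_of_inj (LinearMap.dualMap_injective_of_surjective (toCot_surjective (G := G)))]
    exact Submodule.finrank_mono (Submodule.span_le.2 hmem)
  have := hle.trans (finrank_cotangent_le hd)
  rw [Fintype.card_sum, Fintype.card_option, ← Module.finrank_eq_card_chooseBasisIndex] at this
  omega

end torTan

end Groth.RedX

end
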